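import Groth.Agent.Lib.Helper8.AlgSp.OverField
import Groth.Agent.Lib.Helper5.AlgSp.AffineMor

/-!
# Small calculus for surjective / universally open / affine morphisms of sheaves
-/

set_option autoImplicit false

universe u

open CategoryTheory CategoryTheory.Limits AlgebraicGeometry Opposite

namespace Groth.Agent.H8.AlgSp

open _root_.AlgSp Groth.Agent.H5.AlgSp Groth.Agent.H5.EtSrc

variable {S : Scheme.{u}} {F G H : Sp S}

theorem isSurjectiveMor_of_section {f : F ⟶ G} {e : G ⟶ F} (h : e ≫ f = 𝟙 G) :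
    IsSurjectiveMor f := fun x =>
  ⟨Points.map e x, by rw [← Points.map_comp, h, Points.map_id]⟩

theorem isSurjectiveMor_of_isIso (f : F ⟶ G) [IsIso f] : IsSurjectiveMor f :=
  isSurjectiveMor_of_section (IsIso.inv_hom_id f)

theorem isSurjectiveMor_comp {f : F ⟶ G} {g : G ⟶ H} (hf : IsSurjectiveMor f)
    (hg : IsSurjectiveMor g) : IsSurjectiveMor (f ≫ g) := fun x => by
  obtain ⟨y, rfl⟩ := hg x
  obtain ⟨z, rfl⟩ := hf y
  exact ⟨z, Points.map_comp f g z⟩

theorem isSurjectiveMor_baseChange {F' G' : Sp S} {f : F ⟶ G} {g : G' ⟶ G} {fst : F' ⟶ F}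
    {snd : F' ⟶ G'} (sq : IsPullback fst snd f g) (hf : IsSurjectiveMor f) :
    IsSurjectiveMor snd := fun y => by
  obtain ⟨x, hx⟩ := hf (Points.map g y)
  obtain ⟨z, -, hz⟩ := points_pullback_surjective sq x y hx
  exact ⟨z, hz⟩

/-- Universally open morphisms compose. -/
theorem isUnivOpenMor_comp {f : F ⟶ G} {g : G ⟶ H} (hG : IsAlgSpace G) (hH : IsAlgSpace H)
    (hf : IsUnivOpenMor f) (hg : IsUnivOpenMor g) : IsUnivOpenMor (f ≫ g) := by
  intro Z Z' hZ k fst snd sq
  -- `W = Z ×_H G`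
  have sqW := IsPullback.of_hasPullback g k
  have hW : IsAlgSpace (pullback g k) := isAlgSpace_pullback hH.diag hG hZ sqW
  have hw : (fst ≫ f) ≫ g = snd ≫ k := by rw [Category.assoc]; exact sq.w
  have sqL : IsPullback fst (sqW.lift (fst ≫ f) snd hw) f (pullback.fst g k) := by
    apply IsPullback.of_bot _ (sqW.lift_fst _ _ _).symm sqW
    rw [sqW.lift_snd]
    exact sq
  have h1 : IsOpenMap (Points.map (sqW.lift (fst ≫ f) snd hw)) := hf hW _ _ _ sqL
  have h2 : IsOpenMap (Points.map (pullback.snd g k)) := hg hZ _ _ _ sqW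
  have : Points.map snd = Points.map (pullback.snd g k) ∘ Points.map (sqW.lift (fst ≫ f) snd hw) := by
    funext x
    rw [Function.comp_apply, ← Points.map_comp, sqW.lift_snd]
  change IsOpenMap (Points.map snd)
  rw [this]
  exact h2.comp h1

theorem isAffineMor_id (F : Sp S) : IsAffineMor (𝟙 F) := by
  intro Z hZ k
  exact ⟨Z, 𝟙 Z, k, IsPullback.of_vert_isIso ⟨by simp⟩, hZ⟩

theorem isAffineMor_of_isIso (f : F ⟶ G) [IsIso f] : IsAffineMor f :=
  isAffineMor_of_isPullback
    (IsPullback.of_horiz_isIso (fst := f) (snd := f) (f := 𝟙 G) (g := 𝟙 G) ⟨by simp⟩)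
    (isAffineMor_id G)

/-- Base changes of morphisms to (a sheaf isomorphic to) the spectrum of a field are flat and
universally open. -/
theorem flat_univOpen_of_isPullback_iso_field {U F F' G' : Sp S} (hF : IsAlgSpace F)
    (hG' : IsAlgSpace G') {T : Over S} [IsIntegral T.left] [Subsingleton T.left]
    (eU : U ≅ (yon S).obj T) {f : F ⟶ U} {g : G' ⟶ U} {fst : F' ⟶ F} {f' : F' ⟶ G'}
    (sq : IsPullback fst f' f g) : LocP @Flat f' ∧ IsUnivOpenMor f' := by
  have sq2 : IsPullback f (𝟙 F) eU.hom (f ≫ eU.hom) := IsPullback.of_vert_isIso ⟨by simp⟩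
  have sq3 := sq.flip.paste_vert sq2
  rw [Category.comp_id] at sq3
  exact flat_univOpen_of_isPullback_field hF hG' sq3.flip

/-- Morphisms to (a sheaf isomorphic to) the spectrum of a field are flat and universally
open. -/
theorem flat_univOpen_of_iso_field {U F : Sp S} (hF : IsAlgSpace F) {T : Over S}
    [IsIntegral T.left] [Subsingleton T.left] (eU : U ≅ (yon S).obj T) (f : F ⟶ U) :
    LocP @Flat f ∧ IsUnivOpenMor f :=
  flat_univOpen_of_isPullback_iso_field hF (isAlgSpace_of_iso eU (IsAlgSpace.yon_obj T)) eU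
    (IsPullback.of_horiz_isIso (fst := 𝟙 F) (snd := f) (f := f) (g := 𝟙 U) ⟨by simp⟩)

end Groth.Agent.H8.AlgSp
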