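import Groth.Agent.Lib.Helper8.AlgSp.Quot

/-!
# Groupoids in sheaves: basic consequences of the axioms
-/

set_option autoImplicit false

universe u

open CategoryTheory CategoryTheory.Limits AlgebraicGeometry Opposite

namespace Groth.Agent.H8.AlgSp

open _root_.AlgSp Groth.Agent.H5.AlgSp

variable {S : Scheme.{u}} {B : Sp S} (G : GroupoidSp B)

/-- The relation of a groupoid on `T`-points (any sheaf `T`) is an equivalence relation. -/
theorem GroupoidSp.rel_equivalence (T : Sp S) :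
    _root_.Equivalence (fun a b : T ⟶ G.U => ∃ r : T ⟶ G.R, r ≫ G.t = a ∧ r ≫ G.s = b) := by
  refine ⟨fun a => ⟨a ≫ G.e, ?_, ?_⟩, ?_, ?_⟩
  · rw [Category.assoc, G.e_t, Category.comp_id]
  · rw [Category.assoc, G.e_s, Category.comp_id]
  · rintro a b ⟨r, rfl, rfl⟩
    exact ⟨r ≫ G.i, by rw [Category.assoc, G.i_t], by rw [Category.assoc, G.i_s]⟩
  · rintro a b c ⟨r₁, rfl, h1⟩ ⟨r₂, h2, rfl⟩
    have h : r₁ ≫ G.s = r₂ ≫ G.t := h1.trans h2.symm
    exact ⟨pullback.lift r₁ r₂ h ≫ G.c, G.comp_t r₁ r₂ h, G.comp_s r₁ r₂ h⟩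

theorem GroupoidSp.isPreEqvRelSp : IsPreEqvRelSp G.s G.t :=
  fun T => GroupoidSp.rel_equivalence G ((yon S).obj T)

/-- Quotient by the restriction of a groupoid: injectivity, and bijectivity when
`U' ×_{U,t} R ⟶ U` is an epimorphism. -/
theorem restriction_quot (G G' : GroupoidSp B) (φ : GroupoidSp.Hom G' G) (hφ : φ.IsRestriction)
    (ψ : quotSp G'.s G'.t ⟶ quotSp G.s G.t)
    (hψ' : quotSpπ G'.s G'.t ≫ ψ = φ.fU ≫ quotSpπ G.s G.t) :
    Mono ψ ∧ (Epi (pullback.snd φ.fU G.t ≫ G.s) → IsIso ψ) := by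
  have hmono : Mono ψ := by
    apply mono_of_yon
    intro T x y hxy
    apply yon_hom_ext_of_mem_J ((J S).intersection_covering (liftSieve_quotSpπ_mem G'.s G'.t x)
      (liftSieve_quotSpπ_mem G'.s G'.t y))
    rintro T' k ⟨⟨a, ha⟩, ⟨b, hb⟩⟩
    have hab : (a ≫ φ.fU) ≫ quotSpπ G.s G.t = (b ≫ φ.fU) ≫ quotSpπ G.s G.t := by
      rw [Category.assoc, Category.assoc, ← hψ', ← Category.assoc, ← Category.assoc, ha, hb,
        Category.assoc, Category.assoc, hxy]
    rw [← ha, ← hb]
    apply eq_of_relSieve_mem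
    refine (J S).superset_covering ?_ (relSieve_mem G.s G.t (GroupoidSp.isPreEqvRelSp G) _ _ hab)
    rintro T'' l ⟨ρ, h1, h2⟩
    have hcompat : ((yon S).map l ≫ a) ≫ G'.pU = ((yon S).map l ≫ b) ≫ G'.pU := by
      rw [← φ.fU_over, ← Category.assoc, ← Category.assoc, Category.assoc _ a, Category.assoc _ b,
        ← h1, ← h2, Category.assoc, Category.assoc, G.t_over, G.s_over]
    have hcomp : ρ ≫ G.j = pullback.lift ((yon S).map l ≫ a) ((yon S).map l ≫ b) hcompat ≫ φ.prodMap := by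
      apply pullback.hom_ext
      · simp only [Category.assoc, GroupoidSp.j_fst, GroupoidSp.Hom.prodMap,
          pullback.lift_fst, pullback.lift_fst_assoc, h1]
      · simp only [Category.assoc, GroupoidSp.j_snd, GroupoidSp.Hom.prodMap,
          pullback.lift_snd, pullback.lift_snd_assoc, h2]
    refine ⟨hφ.lift _ _ hcomp, ?_, ?_⟩
    · have h3 := congrArg (· ≫ pullback.fst _ _) (hφ.lift_snd _ _ hcomp)
      simpa only [Category.assoc, GroupoidSp.j_fst, pullback.lift_fst] using h3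
    · have h3 := congrArg (· ≫ pullback.snd _ _) (hφ.lift_snd _ _ hcomp)
      simpa only [Category.assoc, GroupoidSp.j_snd, pullback.lift_snd] using h3
  refine ⟨hmono, fun hg => ?_⟩
  have h1 : Epi ((pullback.snd φ.fU G.t ≫ G.s) ≫ quotSpπ G.s G.t) := epi_comp _ _
  have h2 : (pullback.snd φ.fU G.t ≫ G.s) ≫ quotSpπ G.s G.t =
      (pullback.fst φ.fU G.t ≫ quotSpπ G'.s G'.t) ≫ ψ := by
    rw [Category.assoc, quotSp_condition, Category.assoc, hψ', ← Category.assoc,
      ← Category.assoc, pullback.condition]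
  rw [h2] at h1
  have h3 : Epi ψ := epi_of_epi (pullback.fst φ.fU G.t ≫ quotSpπ G'.s G'.t) ψ
  exact isIso_of_mono_of_epi ψ

namespace GroupoidSp

section ptcalc

variable {T T' : Sp S}

/-- Composition of `T`-valued arrows. -/
noncomputable def comp (α β : T ⟶ G.R) (h : α ≫ G.s = β ≫ G.t) : T ⟶ G.R :=
  pullback.lift α β h ≫ G.c

lemma comp_congr {α α' β β' : T ⟶ G.R} (hα : α = α') (hβ : β = β') (h : α ≫ G.s = β ≫ G.t) :
    comp G α β h = comp G α' β' (by rw [← hα, ← hβ, h]) := by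
  subst hα; subst hβ; rfl

lemma comp_s' (α β : T ⟶ G.R) (h : α ≫ G.s = β ≫ G.t) : comp G α β h ≫ G.s = β ≫ G.s :=
  G.comp_s α β h

lemma comp_t' (α β : T ⟶ G.R) (h : α ≫ G.s = β ≫ G.t) : comp G α β h ≫ G.t = α ≫ G.t :=
  G.comp_t α β h

lemma comp_assoc' (α β γ : T ⟶ G.R) (h₁ : α ≫ G.s = β ≫ G.t) (h₂ : β ≫ G.s = γ ≫ G.t) :
    comp G (comp G α β h₁) γ ((comp_s' G α β h₁).trans h₂) =
      comp G α (comp G β γ h₂) (h₁.trans (comp_t' G β γ h₂).symm) :=
  G.assoc α β γ h₁ h₂

lemma comp_e' (α β : T ⟶ G.R) (hβ : β = α ≫ G.s ≫ G.e) :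
    comp G α β (by rw [hβ, Category.assoc, Category.assoc, G.e_t, Category.comp_id]) = α := by
  subst hβ; exact G.comp_e α

lemma comp_i' (α : T ⟶ G.R) :
    comp G α (α ≫ G.i) (by rw [Category.assoc, G.i_t]) = α ≫ G.t ≫ G.e :=
  G.comp_i α

lemma i_comp' (α : T ⟶ G.R) :
    comp G (α ≫ G.i) α (by rw [Category.assoc, G.i_s]) = α ≫ G.s ≫ G.e :=
  G.i_comp α

lemma precomp_comp (f : T' ⟶ T) (α β : T ⟶ G.R) (h : α ≫ G.s = β ≫ G.t) :
    f ≫ comp G α β h = comp G (f ≫ α) (f ≫ β) (by rw [Category.assoc, Category.assoc, h]) := by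
  unfold comp
  rw [← Category.assoc]
  congr 1
  apply pullback.hom_ext
  · rw [Category.assoc, pullback.lift_fst, pullback.lift_fst]
  · rw [Category.assoc, pullback.lift_snd, pullback.lift_snd]

/-- Right translation by an arrow and by its inverse cancel. -/
lemma comp_comp_inv (ρ δ : T ⟶ G.R) (h : ρ ≫ G.s = δ ≫ G.t) :
    comp G (comp G ρ δ h) (δ ≫ G.i)
      (by rw [comp_s', Category.assoc, G.i_t]) = ρ := by
  rw [comp_assoc' G ρ δ (δ ≫ G.i) h (by rw [Category.assoc, G.i_t])]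
  rw [comp_congr G rfl (comp_i' G δ)]
  exact comp_e' G ρ _ (by rw [← Category.assoc, ← h, Category.assoc])

lemma comp_inv_comp (ρ δ : T ⟶ G.R) (h : ρ ≫ G.s = δ ≫ G.s) :
    comp G (comp G ρ (δ ≫ G.i) (by rw [Category.assoc, G.i_t, h])) δ
      (by rw [comp_s', Category.assoc, G.i_s]) = ρ := by
  rw [comp_assoc' G ρ (δ ≫ G.i) δ (by rw [Category.assoc, G.i_t, h]) (by rw [Category.assoc, G.i_s])]
  rw [comp_congr G rfl (i_comp' G δ)]
  exact comp_e' G ρ _ (by rw [← Category.assoc, ← h, Category.assoc])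

lemma e_comp' (α β : T ⟶ G.R) (hβ : β = α ≫ G.t ≫ G.e) :
    comp G β α (by rw [hβ, Category.assoc, Category.assoc, G.e_s, Category.comp_id]) = α := by
  subst hβ; exact G.e_comp α

/-- Left translation by an arrow and by its inverse cancel. -/
lemma inv_comp_comp (δ ρ : T ⟶ G.R) (h : δ ≫ G.s = ρ ≫ G.t) :
    comp G (δ ≫ G.i) (comp G δ ρ h) (by rw [comp_t', Category.assoc, G.i_s]) = ρ := by
  rw [← comp_assoc' G (δ ≫ G.i) δ ρ (by rw [Category.assoc, G.i_s]) h]
  rw [comp_congr G (i_comp' G δ) rfl]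
  exact e_comp' G ρ _ (by rw [← Category.assoc, h, Category.assoc])

lemma comp_inv_comp_left (δ ρ : T ⟶ G.R) (h : δ ≫ G.t = ρ ≫ G.t) :
    comp G δ (comp G (δ ≫ G.i) ρ (by rw [Category.assoc, G.i_s, h]))
      (by rw [comp_t', Category.assoc, G.i_t]) = ρ := by
  rw [← comp_assoc' G δ (δ ≫ G.i) ρ (by rw [Category.assoc, G.i_t]) (by rw [Category.assoc, G.i_s, h])]
  rw [comp_congr G (comp_i' G δ) rfl]
  exact e_comp' G ρ _ (by rw [← Category.assoc, h, Category.assoc])

lemma lift_eq_of (z : T ⟶ pullback G.s G.t) :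
    z ≫ G.c = comp G (z ≫ pullback.fst _ _) (z ≫ pullback.snd _ _)
      (by rw [Category.assoc, pullback.condition, Category.assoc]) := by
  unfold comp
  congr 1
  apply pullback.hom_ext
  · rw [pullback.lift_fst]
  · rw [pullback.lift_snd]

end ptcalc

/-- The fibre of `s` over the target of an arrow `δ` is isomorphic (over the parameter space) to the
fibre of `s` over its source, by right translation. -/
theorem nonempty_fibre_iso {Z : Sp S} (δ : Z ⟶ G.R) :
    Nonempty (Over.mk (pullback.fst (δ ≫ G.t) G.s) ≅ Over.mk (pullback.fst (δ ≫ G.s) G.s)) := by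
  have c1 : pullback.snd (δ ≫ G.t) G.s ≫ G.s = (pullback.fst (δ ≫ G.t) G.s ≫ δ) ≫ G.t := by
    rw [Category.assoc, pullback.condition]
  have c2 : pullback.snd (δ ≫ G.s) G.s ≫ G.s = (pullback.fst (δ ≫ G.s) G.s ≫ δ ≫ G.i) ≫ G.t := by
    rw [Category.assoc, Category.assoc, G.i_t, pullback.condition]
  let Φ : pullback (δ ≫ G.t) G.s ⟶ pullback (δ ≫ G.s) G.s :=
    pullback.lift (pullback.fst _ _) (comp G (pullback.snd _ _) (pullback.fst _ _ ≫ δ) c1)
      (by rw [comp_s', Category.assoc])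
  let Ψ : pullback (δ ≫ G.s) G.s ⟶ pullback (δ ≫ G.t) G.s :=
    pullback.lift (pullback.fst _ _) (comp G (pullback.snd _ _) (pullback.fst _ _ ≫ δ ≫ G.i) c2)
      (by rw [comp_s', Category.assoc, Category.assoc, G.i_s])
  have hΦf : Φ ≫ pullback.fst _ _ = pullback.fst _ _ := pullback.lift_fst _ _ _
  have hΦs : Φ ≫ pullback.snd _ _ = comp G (pullback.snd _ _) (pullback.fst _ _ ≫ δ) c1 :=
    pullback.lift_snd _ _ _
  have hΨf : Ψ ≫ pullback.fst _ _ = pullback.fst _ _ := pullback.lift_fst _ _ _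
  have hΨs : Ψ ≫ pullback.snd _ _ = comp G (pullback.snd _ _) (pullback.fst _ _ ≫ δ ≫ G.i) c2 :=
    pullback.lift_snd _ _ _
  have h1 : Φ ≫ Ψ = 𝟙 _ := by
    apply pullback.hom_ext
    · rw [Category.assoc, hΨf, hΦf, Category.id_comp]
    · rw [Category.assoc, hΨs, precomp_comp, Category.id_comp]
      rw [comp_congr G hΦs (show Φ ≫ pullback.fst _ _ ≫ δ ≫ G.i = (pullback.fst _ _ ≫ δ) ≫ G.i by
        rw [← Category.assoc, hΦf, Category.assoc])]
      exact comp_comp_inv G _ _ c1
  have h2 : Ψ ≫ Φ = 𝟙 _ := by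
    apply pullback.hom_ext
    · rw [Category.assoc, hΦf, hΨf, Category.id_comp]
    · rw [Category.assoc, hΦs, precomp_comp, Category.id_comp]
      rw [comp_congr G (hΨs.trans (comp_congr G rfl (Category.assoc _ _ _).symm c2))
        (show Ψ ≫ pullback.fst _ _ ≫ δ = pullback.fst _ _ ≫ δ by rw [← Category.assoc, hΨf])]
      exact comp_inv_comp G _ _ (by rw [Category.assoc, pullback.condition])
  exact ⟨Over.isoMk ⟨Φ, Ψ, h1, h2⟩ hΦf⟩

/-- The square `c, pr₁, s, s` is cartesian. -/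
theorem isPullback_c_snd : IsPullback G.c (pullback.snd G.s G.t) G.s G.s := by
  have w : G.c ≫ G.s = pullback.snd G.s G.t ≫ G.s := by
    have := G.comp_s (pullback.fst G.s G.t) (pullback.snd G.s G.t) pullback.condition
    rw [show pullback.lift (pullback.fst G.s G.t) (pullback.snd G.s G.t) pullback.condition = 𝟙 _ by
      apply pullback.hom_ext <;> simp, Category.id_comp] at this
    exact this
  refine ⟨⟨w⟩, ⟨PullbackCone.IsLimit.mk _ (fun c => pullback.lift
    (comp G c.fst (c.snd ≫ G.i) (by rw [Category.assoc, G.i_t, c.condition])) c.snd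
    (by rw [comp_s', Category.assoc, G.i_s])) ?_ ?_ ?_⟩⟩
  · intro c
    rw [lift_eq_of]
    rw [comp_congr G (pullback.lift_fst _ _ _) (pullback.lift_snd _ _ _)]
    exact comp_inv_comp G _ _ c.condition
  · intro c
    exact pullback.lift_snd _ _ _
  · intro c m h1 h2
    apply pullback.hom_ext
    · rw [pullback.lift_fst]
      have hm : (m ≫ pullback.fst G.s G.t) ≫ G.s = c.snd ≫ G.t := by
        rw [Category.assoc, pullback.condition, ← Category.assoc, h2]
      have h3 : comp G (m ≫ pullback.fst G.s G.t) c.snd hm = c.fst := by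
        rw [← h1, lift_eq_of]
        exact comp_congr G rfl h2.symm _
      rw [comp_congr G h3.symm rfl]
      exact (comp_comp_inv G _ _ hm).symm
    · rw [pullback.lift_snd, h2]

lemma c_eq_comp : G.c = comp G (pullback.fst G.s G.t) (pullback.snd G.s G.t) pullback.condition := by
  have := lift_eq_of G (𝟙 (pullback G.s G.t))
  rw [Category.id_comp] at this
  rw [this]
  exact comp_congr G (Category.id_comp _) (Category.id_comp _) _

/-- `(α, β) ↦ (α, i(α) ∘ β)` is an isomorphism `R ×_{t,t} R ⟶ R ×_{s,t} R` whose composite with `c`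
is the second projection. -/
theorem shear_isIso (φ : pullback G.t G.t ⟶ pullback G.s G.t)
    (h1 : φ ≫ pullback.fst G.s G.t = pullback.fst G.t G.t)
    (h2 : φ ≫ pullback.snd G.s G.t =
      comp G (pullback.fst G.t G.t ≫ G.i) (pullback.snd G.t G.t)
        (by rw [Category.assoc, G.i_s, pullback.condition])) :
    IsIso φ ∧ φ ≫ G.c = pullback.snd G.t G.t := by
  have hc : φ ≫ G.c = pullback.snd G.t G.t := by
    rw [lift_eq_of, comp_congr G h1 h2]
    exact comp_inv_comp_left G _ _ pullback.condition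
  refine ⟨?_, hc⟩
  have wt : pullback.fst G.s G.t ≫ G.t = G.c ≫ G.t := by
    rw [c_eq_comp, comp_t']
  refine ⟨pullback.lift (pullback.fst G.s G.t) G.c wt, ?_, ?_⟩
  · apply pullback.hom_ext
    · rw [Category.assoc, pullback.lift_fst, h1, Category.id_comp]
    · rw [Category.assoc, pullback.lift_snd, hc, Category.id_comp]
  · apply pullback.hom_ext
    · rw [Category.assoc, h1, pullback.lift_fst, Category.id_comp]
    · rw [Category.assoc, h2, precomp_comp, Category.id_comp]
      rw [comp_congr G (show pullback.lift (pullback.fst G.s G.t) G.c wt ≫ pullback.fst G.t G.t ≫ G.i =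
        pullback.fst G.s G.t ≫ G.i by rw [← Category.assoc, pullback.lift_fst])
        ((pullback.lift_snd _ _ _).trans (c_eq_comp G))]
      exact inv_comp_comp G _ _ pullback.condition

/-- Left translation by a section `a` of `s` whose target map is an automorphism of `U`. -/
theorem translate_isIso (a : G.U ⟶ G.R) (ha : a ≫ G.s = 𝟙 G.U) [IsIso (a ≫ G.t)]
    (h : (G.t ≫ a) ≫ G.s = 𝟙 G.R ≫ G.t) :
    IsIso (comp G (G.t ≫ a) (𝟙 G.R) h) ∧ G.e ≫ comp G (G.t ≫ a) (𝟙 G.R) h = a := by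
  constructor
  · have hθ : inv (a ≫ G.t) ≫ a ≫ G.t = 𝟙 _ := IsIso.inv_hom_id _
    have hδt : (G.t ≫ inv (a ≫ G.t) ≫ a) ≫ G.t = 𝟙 G.R ≫ G.t := by
      rw [Category.assoc, Category.assoc, hθ, Category.comp_id, Category.id_comp]
    have hΨ0 : ((G.t ≫ inv (a ≫ G.t) ≫ a) ≫ G.i) ≫ G.s = 𝟙 G.R ≫ G.t := by
      rw [Category.assoc, G.i_s, hδt]
    refine ⟨comp G ((G.t ≫ inv (a ≫ G.t) ≫ a) ≫ G.i) (𝟙 G.R) hΨ0, ?_, ?_⟩
    · rw [precomp_comp]
      have e1 : comp G (G.t ≫ a) (𝟙 G.R) h ≫ (G.t ≫ inv (a ≫ G.t) ≫ a) ≫ G.i = (G.t ≫ a) ≫ G.i := by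
        rw [← Category.assoc, ← Category.assoc, comp_t' G (G.t ≫ a) (𝟙 G.R) h]
        simp only [Category.assoc, IsIso.hom_inv_id_assoc]
      rw [comp_congr G e1 (Category.comp_id _)]
      exact inv_comp_comp G _ _ h
    · rw [precomp_comp]
      have e1 : comp G ((G.t ≫ inv (a ≫ G.t) ≫ a) ≫ G.i) (𝟙 G.R) hΨ0 ≫ G.t ≫ a =
          G.t ≫ inv (a ≫ G.t) ≫ a := by
        rw [← Category.assoc, comp_t' G _ (𝟙 G.R) hΨ0]
        simp only [Category.assoc, G.i_t]
        rw [reassoc_of% ha]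
      rw [comp_congr G e1 (Category.comp_id _)]
      exact comp_inv_comp_left G _ _ hδt
  · rw [precomp_comp]
    have e1 : G.e ≫ G.t ≫ a = a := by rw [← Category.assoc, G.e_t, Category.id_comp]
    rw [comp_congr G e1 (Category.comp_id _)]
    exact comp_e' G a G.e (by rw [← Category.assoc, ha, Category.id_comp])

lemma unit_stabilizerToU (eG : G.U ⟶ G.stabilizer) (heG : eG ≫ G.stabilizerι = G.e) :
    eG ≫ G.stabilizerToU = 𝟙 G.U := by
  have h1 : G.stabilizerι ≫ G.j = G.stabilizerToU ≫ G.diag := pullback.condition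
  have h2 := congrArg (eG ≫ ·) h1
  simp only [← Category.assoc, heG] at h2
  have h3 := congrArg (· ≫ pullback.fst G.pU G.pU) h2
  simp only [Category.assoc, _root_.AlgSp.GroupoidSp.j_fst, G.e_t, _root_.AlgSp.GroupoidSp.diag, pullback.lift_fst, Category.comp_id] at h3
  exact h3.symm

/-- The relative diagonal of `j` is a base change of the unit section of the stabilizer. -/
theorem exists_isPullback_diag_j (eG : G.U ⟶ G.stabilizer) (heG : eG ≫ G.stabilizerι = G.e) :
    ∃ d : pullback G.j G.j ⟶ G.stabilizer, IsPullback (pullback.diagonal G.j) G.s d eG := by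
  have ht : pullback.fst G.j G.j ≫ G.t = pullback.snd G.j G.j ≫ G.t := by
    have := congrArg (· ≫ pullback.fst G.pU G.pU) (pullback.condition (f := G.j) (g := G.j))
    simpa only [Category.assoc, _root_.AlgSp.GroupoidSp.j_fst] using this
  have hs : pullback.fst G.j G.j ≫ G.s = pullback.snd G.j G.j ≫ G.s := by
    have := congrArg (· ≫ pullback.snd G.pU G.pU) (pullback.condition (f := G.j) (g := G.j))
    simpa only [Category.assoc, _root_.AlgSp.GroupoidSp.j_snd] using this
  have h0 : (pullback.fst G.j G.j ≫ G.i) ≫ G.s = pullback.snd G.j G.j ≫ G.t := by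
    rw [Category.assoc, G.i_s, ht]
  have hδj : comp G (pullback.fst G.j G.j ≫ G.i) (pullback.snd G.j G.j) h0 ≫ G.j =
      (pullback.snd G.j G.j ≫ G.s) ≫ G.diag := by
    apply pullback.hom_ext
    · simp only [Category.assoc, _root_.AlgSp.GroupoidSp.j_fst, _root_.AlgSp.GroupoidSp.diag, pullback.lift_fst, Category.comp_id]
      rw [comp_t', Category.assoc, G.i_t, hs]
    · simp only [Category.assoc, _root_.AlgSp.GroupoidSp.j_snd, _root_.AlgSp.GroupoidSp.diag, pullback.lift_snd, Category.comp_id]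
      rw [comp_s']
  let d : pullback G.j G.j ⟶ G.stabilizer :=
    pullback.lift (comp G (pullback.fst G.j G.j ≫ G.i) (pullback.snd G.j G.j) h0)
      (pullback.snd G.j G.j ≫ G.s) hδj
  have hdι : d ≫ G.stabilizerι = comp G (pullback.fst G.j G.j ≫ G.i) (pullback.snd G.j G.j) h0 :=
    pullback.lift_fst _ _ _
  have hdU : d ≫ G.stabilizerToU = pullback.snd G.j G.j ≫ G.s := pullback.lift_snd _ _ _
  have heU := unit_stabilizerToU G eG heG
  refine ⟨d, ⟨?_⟩, ⟨PullbackCone.IsLimit.mk _ (fun c => c.fst ≫ pullback.fst G.j G.j) ?_ ?_ ?_⟩⟩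
  · apply pullback.hom_ext
    · change (_ ≫ d) ≫ G.stabilizerι = (_ ≫ eG) ≫ G.stabilizerι
      rw [Category.assoc, hdι, Category.assoc, heG, precomp_comp]
      rw [comp_congr G (show pullback.diagonal G.j ≫ pullback.fst G.j G.j ≫ G.i = 𝟙 G.R ≫ G.i by
        rw [← Category.assoc, pullback.diagonal_fst]) (pullback.diagonal_snd G.j)]
      rw [i_comp' G (𝟙 G.R), Category.id_comp]
    · change (_ ≫ d) ≫ G.stabilizerToU = (_ ≫ eG) ≫ G.stabilizerToU
      rw [Category.assoc, hdU, Category.assoc, heU, ← Category.assoc, pullback.diagonal_snd,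
        Category.id_comp, Category.comp_id]
  · intro c
    -- α = β
    have hc := c.condition
    have h1 : c.fst ≫ comp G (pullback.fst G.j G.j ≫ G.i) (pullback.snd G.j G.j) h0 = c.snd ≫ G.e := by
      have := congrArg (· ≫ G.stabilizerι) hc
      simpa only [Category.assoc, hdι, heG] using this
    have h2 : c.fst ≫ pullback.snd G.j G.j ≫ G.s = c.snd := by
      have := congrArg (· ≫ G.stabilizerToU) hc
      simpa only [Category.assoc, hdU, heU, Category.comp_id] using this
    have hαβ : c.fst ≫ pullback.fst G.j G.j = c.fst ≫ pullback.snd G.j G.j := by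
      have ht' : (c.fst ≫ pullback.fst G.j G.j) ≫ G.t = (c.fst ≫ pullback.snd G.j G.j) ≫ G.t := by
        rw [Category.assoc, Category.assoc, ht]
      have e1 := comp_inv_comp_left G (c.fst ≫ pullback.fst G.j G.j) (c.fst ≫ pullback.snd G.j G.j) ht'
      rw [precomp_comp] at h1
      rw [← e1]
      rw [comp_congr G rfl ((comp_congr G (Category.assoc _ _ _) rfl _).trans h1)]
      exact (comp_e' G _ _ (by
        rw [← Category.assoc, Category.assoc c.fst, hs, h2])).symm
    apply pullback.hom_ext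
    · rw [Category.assoc, pullback.diagonal_fst, Category.comp_id]
    · rw [Category.assoc, pullback.diagonal_snd, Category.comp_id, hαβ]
  · intro c
    have hc := c.condition
    have h2 : c.fst ≫ pullback.snd G.j G.j ≫ G.s = c.snd := by
      have := congrArg (· ≫ G.stabilizerToU) hc
      simpa only [Category.assoc, hdU, heU, Category.comp_id] using this
    rw [Category.assoc, hs, h2]
  · intro c m h1 _
    rw [← h1, Category.assoc, pullback.diagonal_fst, Category.comp_id]

theorem nonempty_fibre_iso' {Z : Sp S} (δ : Z ⟶ G.R) (u u' : Z ⟶ G.U) (hu : δ ≫ G.t = u)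
    (hu' : δ ≫ G.s = u') :
    Nonempty (Over.mk (pullback.fst u G.s) ≅ Over.mk (pullback.fst u' G.s)) := by
  subst hu; subst hu'
  exact nonempty_fibre_iso G δ

end GroupoidSp

end Groth.Agent.H8.AlgSp
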