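import Groth.Prelude.Def_AlgSpCov
import Groth.Agent.Lib.Helper8.AlgSp.Gpd
import Groth.Agent.Lib.Helper8.AlgSp.MorCalc
import Groth.Agent.Lib.Helper5.AlgSp.OpenSubspace
import Groth.Agent.Lib.Helper5.AlgSp.OpenSub
import Groth.Agent.Lib.Helper5.AlgSp.ImmersionTop
import Groth.Agent.Lib.Helper5.AlgSp.LocPMore

/-!
# Maximal open subspaces defined by a property local on the base are invariant
-/

set_option autoImplicit false

universe u

open CategoryTheory CategoryTheory.Limits AlgebraicGeometry Opposite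

namespace Groth.Agent.H8.AlgSp

open _root_.AlgSp Groth.Agent.H5.AlgSp

variable {S : Scheme.{u}}

theorem repWith_mono {P P' : MorphismProperty Scheme.{u}} (hle : P ≤ P') {F G : Sp S} {f : F ⟶ G}
    (h : RepWith P f) : RepWith P' f :=
  ⟨h.rep, fun _ _ g fst snd sq => hle _ (h.property g fst snd sq)⟩

theorem repWith_etale_of_isOpenImmersion {F G : Sp S} {f : F ⟶ G}
    (h : RepWith @IsOpenImmersion f) : RepWith @Etale f :=
  repWith_mono (fun _ _ g hg => by
    have : IsOpenImmersion g := hg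
    exact (inferInstance : Etale g)) h

/-- `Q` is open on points. -/
def OpenOnPts (Q : MorphismProperty (Sp S)) : Prop :=
  ∀ ⦃X Y : Sp S⦄ (f : X ⟶ Y), IsAlgSpace X → IsAlgSpace Y → Q f → IsOpenMap (Points.map f)

/-- `Q` restricts to open subspaces of source and target. -/
def RestrictsToOpens (Q : MorphismProperty (Sp S)) : Prop :=
  ∀ ⦃X Y X' Y' : Sp S⦄ (f : X ⟶ Y) (i : X' ⟶ X) (j : Y' ⟶ Y) (f' : X' ⟶ Y'),
    RepWith @IsOpenImmersion i → RepWith @IsOpenImmersion j → Mono j → f' ≫ j = i ≫ f →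
    Q f → Q f'

theorem locP_restrict (Q₀ : MorphismProperty Scheme.{u}) :
    RestrictsToOpens (S := S) (LocP Q₀) := by
  intro X Y X' Y' f i j f' hi hj _ hcomm hf A B a b h ha hb comm
  refine hf (a ≫ i) (b ≫ j) h ((RepWith @Etale).comp_mem _ _ ha
    (repWith_etale_of_isOpenImmersion hi)) ((RepWith @Etale).comp_mem _ _ hb
    (repWith_etale_of_isOpenImmersion hj)) ?_
  rw [Category.assoc, ← hcomm, ← Category.assoc, comm, Category.assoc]

theorem locP_mono {Q₀ Q₁ : MorphismProperty Scheme.{u}} (hle : Q₀ ≤ Q₁) {F G : Sp S} {f : F ⟶ G}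
    (h : LocP Q₀ f) : LocP Q₁ f :=
  fun _ _ a b k ha hb comm => hle _ (h a b k ha hb comm)

theorem isOpenMor_of_isUnivOpenMor {F G : Sp S} {f : F ⟶ G} (hG : IsAlgSpace G)
    (h : IsUnivOpenMor f) : IsOpenMap (Points.map f) :=
  h hG (𝟙 G) (𝟙 F) f (IsPullback.of_horiz_isIso ⟨by simp⟩)

theorem openOnPts_fppf : OpenOnPts (S := S)
    (fun _ _ f => LocP @Flat f ∧ LocP @LocallyOfFinitePresentation f) :=
  fun _ _ _ hX hY hf => isOpenMor_of_isUnivOpenMor hY (isUnivOpenMor_of_locP_flat_lfp hX hY hf.1 hf.2)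

theorem openOnPts_smooth : OpenOnPts (S := S) (LocP @Smooth) :=
  fun _ _ _ hX hY hf => openOnPts_fppf _ hX hY
    ⟨locP_mono (fun _ _ g hg => by
        have : Smooth g := hg
        exact (inferInstance : Flat g)) hf,
      locP_mono (fun _ _ g hg => by
        have : Smooth g := hg
        exact (inferInstance : LocallyOfFinitePresentation g)) hf⟩

theorem openOnPts_etale : OpenOnPts (S := S) IsEtaleMor := by
  intro X Y f hX hY hf
  obtain ⟨A, a, hae, has⟩ := hX.atlas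
  exact isOpenMap_points_of_comp_surjective (points_map_surjective_of_repWith has)
    (isOpenMap_points_map_of_etale (hf a hae))

theorem restrictsToOpens_fppf : RestrictsToOpens (S := S)
    (fun _ _ f => LocP @Flat f ∧ LocP @LocallyOfFinitePresentation f) :=
  fun _ _ _ _ f i j f' hi hj hm hc hf =>
    ⟨locP_restrict _ f i j f' hi hj hm hc hf.1, locP_restrict _ f i j f' hi hj hm hc hf.2⟩

theorem restrictsToOpens_etale : RestrictsToOpens (S := S) IsEtaleMor := by
  intro X Y X' Y' f i j f' hi hj _ hcomm hf A φ hφ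
  have h1 : RepWith @Etale ((φ ≫ i) ≫ f) :=
    hf (φ ≫ i) ((RepWith @Etale).comp_mem _ _ hφ (repWith_etale_of_isOpenImmersion hi))
  rw [Category.assoc, ← hcomm, ← Category.assoc] at h1
  exact repWith_of_comp_mono j h1

theorem points_map_openSubι_mem (F : Sp S) (W : Set (Points F)) (z : Points (openSub F W)) :
    Points.map (openSubι F W) z ∈ W := by
  have : Points.map (openSubι F W) z ∈ Set.range (Points.map (openSubι F W)) := ⟨z, rfl⟩
  rwa [range_points_map_openSubι] at this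

/-- The covering notion attached to a property of morphisms. -/
abbrev covOf (Q : MorphismProperty (Sp S)) : CovNotion S := fun _ _ Y g => IsCover Q Y g

variable {B : Sp S}

/-- Key step: `s(t⁻¹(W)) ⊆ W` for the maximal open `W` over which `f` has `P`, provided the
base changes of `f` along `s` and `t` agree over every open of `R`. -/
theorem max_open_saturated (G : GroupoidSp B) (hU : IsAlgSpace G.U) (hR : IsAlgSpace G.R)
    (Q : MorphismProperty (Sp S)) (hQ1 : OpenOnPts Q) (hQ2 : RestrictsToOpens Q)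
    (P : MorphismProperty (Sp S)) (hP : IsLocalOnBase (covOf Q) P)
    (hs : covOf Q (fun _ : PUnit.{u + 1} => G.R) (fun _ => G.s))
    (ht : covOf Q (fun _ : PUnit.{u + 1} => G.R) (fun _ => G.t))
    {X : Sp S} (hX : IsAlgSpace X) (f : X ⟶ G.U)
    (hsq : ∀ (V : Sp S) (v : V ⟶ G.R), IsAlgSpace V → ∃ (Y : Sp S) (p : Y ⟶ V) (q₁ q₂ : Y ⟶ X),
      IsPullback q₁ p f (v ≫ G.t) ∧ IsPullback q₂ p f (v ≫ G.s))
    {W : Sp S} (hWsp : IsAlgSpace W) (w : W ⟶ G.U) [Mono w] (hw : RepWith @IsOpenImmersion w)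
    (hmax : ∀ (W' : Sp S) (w' : W' ⟶ G.U), IsAlgSpace W' → RepWith @IsOpenImmersion w' →
      (P (pullback.snd f w') ↔ ∃ k : W' ⟶ W, k ≫ w = w'))
    (ρ : Points G.R) (hρ : Points.map G.t ρ ∈ Set.range (Points.map w)) :
    Points.map G.s ρ ∈ Set.range (Points.map w) := by
  set 𝒲 := Set.range (Points.map w) with h𝒲
  have h𝒲o : IsOpen 𝒲 := by
    rw [h𝒲, ← Set.image_univ]
    exact isOpenMap_points_map_of_repWith (P := @IsOpenImmersion) (fun f hf => by
      have : IsOpenImmersion f := hf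
      exact f.isOpenEmbedding.isOpenMap) hw _ isOpen_univ
  set 𝒱 : Set (Points G.R) := Points.map G.t ⁻¹' 𝒲 with h𝒱
  have h𝒱o : IsOpen 𝒱 := h𝒲o.preimage (Points.continuous_map G.t)
  set 𝒲'' : Set (Points G.U) := Points.map G.s '' 𝒱 with h𝒲''
  have h𝒲''o : IsOpen 𝒲'' := hQ1 G.s hR hU (hs.1 PUnit.unit) _ h𝒱o
  have hV : IsAlgSpace (openSub G.R 𝒱) := isAlgSpace_openSub hR h𝒱o
  have hW'' : IsAlgSpace (openSub G.U 𝒲'') := isAlgSpace_openSub hU h𝒲''o
  have hvr : Set.range (Points.map (openSubι G.R 𝒱)) = 𝒱 := range_points_map_openSubι 𝒱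
  have hw''r : Set.range (Points.map (openSubι G.U 𝒲'')) = 𝒲'' := range_points_map_openSubι 𝒲''
  -- the restrictions of `t` and `s`
  obtain ⟨τV, hτV⟩ : ∃ k : openSub G.R 𝒱 ⟶ W, k ≫ w = openSubι G.R 𝒱 ≫ G.t := by
    rw [factors_through_open_iff w hw]
    rintro _ ⟨z, rfl⟩
    rw [Points.map_comp]
    exact points_map_openSubι_mem _ _ z
  obtain ⟨σ, hσ⟩ : ∃ k : openSub G.R 𝒱 ⟶ openSub G.U 𝒲'',
      k ≫ openSubι G.U 𝒲'' = openSubι G.R 𝒱 ≫ G.s := by
    rw [factors_through_open_iff _ (repWith_openSubι h𝒲''o)]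
    rintro _ ⟨z, rfl⟩
    rw [Points.map_comp, hw''r]
    exact ⟨_, points_map_openSubι_mem _ _ z, rfl⟩
  -- the two coverings
  have cov1 : covOf Q (fun _ : PUnit.{u + 1} => openSub G.R 𝒱) (fun _ => τV) := by
    refine ⟨fun _ => hQ2 G.t (openSubι G.R 𝒱) w τV (repWith_openSubι h𝒱o) hw inferInstance hτV
      (ht.1 PUnit.unit), fun y => ⟨PUnit.unit, ?_⟩⟩
    have h1 : Points.map G.e (Points.map w y) ∈ 𝒱 := by
      rw [h𝒱, Set.mem_preimage, ← Points.map_comp, G.e_t, Points.map_id]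
      exact ⟨y, rfl⟩
    rw [← hvr] at h1
    obtain ⟨z, hz⟩ := h1
    refine ⟨z, points_map_injective_of_mono w ?_⟩
    rw [← Points.map_comp, hτV, Points.map_comp, hz, ← Points.map_comp, G.e_t, Points.map_id]
  have cov2 : covOf Q (fun _ : PUnit.{u + 1} => openSub G.R 𝒱) (fun _ => σ) := by
    refine ⟨fun _ => hQ2 G.s (openSubι G.R 𝒱) (openSubι G.U 𝒲'') σ (repWith_openSubι h𝒱o)
      (repWith_openSubι h𝒲''o) inferInstance hσ (hs.1 PUnit.unit), fun y => ⟨PUnit.unit, ?_⟩⟩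
    have h1 : Points.map (openSubι G.U 𝒲'') y ∈ 𝒲'' := points_map_openSubι_mem _ _ y
    obtain ⟨ρ', hρ', hρ's⟩ := h1
    rw [← hvr] at hρ'
    obtain ⟨z, rfl⟩ := hρ'
    refine ⟨z, points_map_injective_of_mono (openSubι G.U 𝒲'') ?_⟩
    rw [← Points.map_comp, hσ, Points.map_comp, hρ's]
  -- the common base change
  obtain ⟨Y, p, q₁, q₂, sq₁, sq₂⟩ := hsq _ (openSubι G.R 𝒱) hV
  have hY : IsAlgSpace Y := isAlgSpace_pullback hU.diag hX hV sq₁
  have hXW : IsAlgSpace (pullback f w) :=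
    isAlgSpace_pullback hU.diag hX hWsp (IsPullback.of_hasPullback f w)
  have hXW'' : IsAlgSpace (pullback f (openSubι G.U 𝒲'')) :=
    isAlgSpace_pullback hU.diag hX hW'' (IsPullback.of_hasPullback f _)
  have hPW : P (pullback.snd f w) := (hmax W w hWsp hw).2 ⟨𝟙 W, Category.id_comp w⟩
  -- locality over `W`
  have sqA : IsPullback (pullback.lift q₁ (p ≫ τV) (by rw [sq₁.w, Category.assoc, hτV])) p
      (pullback.snd f w) τV := by
    apply IsPullback.of_right (h₁₂ := pullback.fst f w) (h₂₂ := w) _ (pullback.lift_snd _ _ _)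
      (IsPullback.of_hasPullback f w)
    rw [pullback.lift_fst, hτV]
    exact sq₁
  have hPp : P p :=
    ((hP (fun _ : PUnit.{u + 1} => openSub G.R 𝒱) (fun _ => τV) hWsp (fun _ => hV) cov1
      (pullback.snd f w) hXW (fun _ => Y) (fun _ => p) (fun _ => _) (fun _ => hY)
      (fun _ => sqA)).1 hPW) PUnit.unit
  -- locality over `W''`
  have sqB : IsPullback (pullback.lift q₂ (p ≫ σ) (by rw [sq₂.w, Category.assoc, hσ])) p
      (pullback.snd f (openSubι G.U 𝒲'')) σ := by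
    apply IsPullback.of_right (h₁₂ := pullback.fst f (openSubι G.U 𝒲''))
      (h₂₂ := openSubι G.U 𝒲'') _ (pullback.lift_snd _ _ _)
      (IsPullback.of_hasPullback f (openSubι G.U 𝒲''))
    rw [pullback.lift_fst, hσ]
    exact sq₂
  have hPW'' : P (pullback.snd f (openSubι G.U 𝒲'')) :=
    (hP (fun _ : PUnit.{u + 1} => openSub G.R 𝒱) (fun _ => σ) hW'' (fun _ => hV) cov2
      (pullback.snd f (openSubι G.U 𝒲'')) hXW'' (fun _ => Y) (fun _ => p) (fun _ => _)
      (fun _ => hY) (fun _ => sqB)).2 (fun _ => hPp)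
  obtain ⟨k, hk⟩ := (hmax _ _ hW'' (repWith_openSubι h𝒲''o)).1 hPW''
  have hsub : 𝒲'' ⊆ 𝒲 := by
    rw [← hw''r, ← hk]
    rintro _ ⟨z, rfl⟩
    exact ⟨Points.map k z, (Points.map_comp k w z).symm⟩
  exact hsub ⟨ρ, hρ, rfl⟩

/-- The maximal open `W` over which `f` has `P` is `R`-invariant. -/
theorem isInvariant_of_max (G : GroupoidSp B) (hU : IsAlgSpace G.U) (hR : IsAlgSpace G.R)
    (Q : MorphismProperty (Sp S)) (hQ1 : OpenOnPts Q) (hQ2 : RestrictsToOpens Q)
    (P : MorphismProperty (Sp S)) (hP : IsLocalOnBase (covOf Q) P)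
    (hs : covOf Q (fun _ : PUnit.{u + 1} => G.R) (fun _ => G.s))
    (ht : covOf Q (fun _ : PUnit.{u + 1} => G.R) (fun _ => G.t))
    {X : Sp S} (hX : IsAlgSpace X) (f : X ⟶ G.U)
    (hsq : ∀ (V : Sp S) (v : V ⟶ G.R), IsAlgSpace V → ∃ (Y : Sp S) (p : Y ⟶ V) (q₁ q₂ : Y ⟶ X),
      IsPullback q₁ p f (v ≫ G.t) ∧ IsPullback q₂ p f (v ≫ G.s))
    {W : Sp S} (hWsp : IsAlgSpace W) (w : W ⟶ G.U) [Mono w] (hw : RepWith @IsOpenImmersion w)
    (hmax : ∀ (W' : Sp S) (w' : W' ⟶ G.U), IsAlgSpace W' → RepWith @IsOpenImmersion w' →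
      (P (pullback.snd f w') ↔ ∃ k : W' ⟶ W, k ≫ w = w')) :
    G.IsInvariant w := by
  have key := max_open_saturated G hU hR Q hQ1 hQ2 P hP hs ht hX f hsq hWsp w hw hmax
  intro T r
  rw [factors_through_open_iff w hw (r ≫ G.t), factors_through_open_iff w hw (r ≫ G.s)]
  constructor
  · rintro h _ ⟨x, rfl⟩
    rw [Points.map_comp]
    apply key
    rw [← Points.map_comp]
    exact h ⟨x, rfl⟩
  · rintro h _ ⟨x, rfl⟩
    rw [Points.map_comp]
    have := key (Points.map G.i (Points.map r x)) (by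
      rw [← Points.map_comp, G.i_t, ← Points.map_comp]
      exact h ⟨x, rfl⟩)
    rwa [← Points.map_comp, G.i_s] at this

end Groth.Agent.H8.AlgSp
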