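import Mathlib

/-!
# Quotient sheaves of sets: sections equal in a coequalizer are locally related

General site-level statement: for `s t : R ⟶ U` in `Sheaf J (Type (max u v))` whose section-level
relation is an equivalence relation on every object, two sections of `U` with the same image in a
coequalizer are locally related.
-/

set_option autoImplicit false

universe v u

open CategoryTheory CategoryTheory.Limits Opposite

namespace Groth.Agent.H8.QuotCore

variable {C : Type u} [Category.{v} C] {J : GrothendieckTopology C}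
variable {R U Q : Sheaf J (Type (max u v))} (s t : R ⟶ U)

/-- The section-level relation. -/
def rel (X : Cᵒᵖ) (a b : U.obj.obj X) : Prop :=
  ∃ r : R.obj.obj X, t.hom.app X r = a ∧ s.hom.app X r = b

lemma rel_map {X Y : Cᵒᵖ} (f : X ⟶ Y) {a b : U.obj.obj X} (h : rel s t X a b) :
    rel s t Y (U.obj.map f a) (U.obj.map f b) := by
  obtain ⟨r, rfl, rfl⟩ := h
  exact ⟨R.obj.map f r, (NatTrans.naturality_apply t.hom f r), (NatTrans.naturality_apply s.hom f r)⟩

/-- The presheaf quotient. -/
def preQuot : Cᵒᵖ ⥤ Type (max u v) where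
  obj X := Quot (rel s t X)
  map {X Y} f := ↾(Quot.map (U.obj.map f) (fun _ _ h => rel_map s t f h))
  map_id X := by
    ext x
    induction x using Quot.ind with
    | mk a => simp [Quot.map]
  map_comp f g := by
    ext x
    induction x using Quot.ind with
    | mk a => simp [Quot.map]

/-- The projection to the presheaf quotient. -/
def toPreQuot : U.obj ⟶ preQuot s t where
  app X := ↾(fun a => Quot.mk _ a)
  naturality X Y f := rfl

lemma toPreQuot_app_apply (X : Cᵒᵖ) (a : U.obj.obj X) :
    (toPreQuot s t).app X a = Quot.mk (rel s t X) a := rfl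

lemma toPreQuot_surjective (X : Cᵒᵖ) (x : (preQuot s t).obj X) :
    ∃ a : U.obj.obj X, (toPreQuot s t).app X a = x := by
  induction x using Quot.ind with
  | mk a => exact ⟨a, rfl⟩

variable {s t}

/-- The comparison map from the presheaf quotient to any sheaf receiving a coequalizing map. -/
def preQuotDesc (π : U ⟶ Q) (w : s ≫ π = t ≫ π) : preQuot s t ⟶ Q.obj where
  app X := ↾(Quot.lift (π.hom.app X) (by
    rintro a b ⟨r, rfl, rfl⟩
    have := congrArg (fun φ : R ⟶ Q => φ.hom.app X r) w
    exact this.symm))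
  naturality X Y f := by
    ext x
    induction x using Quot.ind with
    | mk a => exact NatTrans.naturality_apply π.hom f a

lemma preQuotDesc_toPreQuot_apply (π : U ⟶ Q) (w : s ≫ π = t ≫ π) (X : Cᵒᵖ) (a : U.obj.obj X) :
    (preQuotDesc π w).app X ((toPreQuot s t).app X a) = π.hom.app X a := rfl

lemma toPreQuot_desc (π : U ⟶ Q) (w : s ≫ π = t ≫ π) :
    toPreQuot s t ≫ preQuotDesc π w = π.hom := by
  ext X a
  rfl

lemma condition_preQuot : s.hom ≫ toPreQuot s t = t.hom ≫ toPreQuot s t := by
  ext X r
  exact (Quot.sound ⟨r, rfl, rfl⟩ : Quot.mk (rel s t X) (t.hom.app X r) = Quot.mk _ (s.hom.app X r)).symm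

/-- The comparison map is inverted by sheafification. -/
lemma W_preQuotDesc (π : U ⟶ Q) (w : s ≫ π = t ≫ π) (hc : IsColimit (Cofork.ofπ π w)) :
    J.W (preQuotDesc π w) := by
  intro G hG
  constructor
  · intro φ φ' h
    dsimp only at h
    have h1 : π ≫ (ObjectProperty.homMk φ : Q ⟶ ⟨G, hG⟩) = π ≫ (ObjectProperty.homMk φ' : Q ⟶ ⟨G, hG⟩) := by
      apply Sheaf.hom_ext
      change π.hom ≫ φ = π.hom ≫ φ'
      rw [← toPreQuot_desc π w, Category.assoc, Category.assoc, h]
    have h2 := Cofork.IsColimit.hom_ext hc (by simpa using h1)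
    exact congrArg InducedCategory.Hom.hom h2
  · intro χ
    let q' : U ⟶ (⟨G, hG⟩ : Sheaf J _) := ObjectProperty.homMk (toPreQuot s t ≫ χ)
    have hq' : s ≫ q' = t ≫ q' := by
      apply Sheaf.hom_ext
      change s.hom ≫ toPreQuot s t ≫ χ = t.hom ≫ toPreQuot s t ≫ χ
      rw [← Category.assoc, condition_preQuot, Category.assoc]
    let φ := Cofork.IsColimit.desc hc q' hq'
    have hφ : π ≫ φ = q' := Cofork.IsColimit.π_desc hc
    refine ⟨φ.hom, ?_⟩
    dsimp only
    ext X x
    obtain ⟨a, rfl⟩ := toPreQuot_surjective s t X x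
    have := congrArg (fun ψ : U ⟶ (⟨G, hG⟩ : Sheaf J _) => ψ.hom.app X a) hφ
    exact this

/-- Sections with the same image in the coequalizer are locally related (when the section-level
relation is an equivalence relation). -/
theorem rel_locally_of_eq (π : U ⟶ Q) (w : s ≫ π = t ≫ π) (hc : IsColimit (Cofork.ofπ π w))
    (hrel : ∀ X : Cᵒᵖ, Equivalence (rel s t X)) {X : Cᵒᵖ} (a b : U.obj.obj X)
    (hab : π.hom.app X a = π.hom.app X b) :
    ∃ W ∈ J X.unop, ∀ ⦃Y : C⦄ (f : Y ⟶ X.unop), W f →
      rel s t (op Y) (U.obj.map f.op a) (U.obj.map f.op b) := by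
  have hW := W_preQuotDesc π w hc
  have hinj := GrothendieckTopology.W.isLocallyInjective hW
  have := Presheaf.equalizerSieve_mem J (preQuotDesc π w) (X := X)
    ((toPreQuot s t).app X a) ((toPreQuot s t).app X b) hab
  refine ⟨_, this, ?_⟩
  intro Y f hf
  have h1 : Quot.mk (rel s t (op Y)) (U.obj.map f.op a) = Quot.mk _ (U.obj.map f.op b) := hf
  exact (hrel (op Y)).eqvGen_iff.mp (Quot.eqvGen_exact h1)

end Groth.Agent.H8.QuotCore
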