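import Groth.Prelude.Def_AlgSpGpd
import Groth.Agent.Lib.Helper5.AlgSp.DiagPres
import Groth.Agent.Lib.Helper5.AlgSp.MonoDesc
import Groth.Agent.Lib.Helper5.AlgSp.Presentation
import Groth.Agent.Lib.Helper8.AlgSp.QuotCore

/-!
# Quotient sheaves `U/R` in `AlgSp.Sp S`
-/

set_option autoImplicit false

universe u

open CategoryTheory CategoryTheory.Limits AlgebraicGeometry Opposite

namespace Groth.Agent.H8.AlgSp

open _root_.AlgSp Groth.Agent.H5.AlgSp

variable {S : Scheme.{u}}

lemma isLocallySurjective_of_epi {F G : Sp S} (f : F ⟶ G) [Epi f] : Sheaf.IsLocallySurjective f :=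
  (Sheaf.isLocallySurjective_iff_epi f).mpr inferInstance

instance epi_quotSpπ {R U : Sp S} (s t : R ⟶ U) : Epi (quotSpπ s t) := by
  unfold quotSpπ; exact coequalizer.π_epi

/-- Epimorphisms of sheaves are stable under base change. -/
theorem epi_fst_of_isPullback {P F G H : Sp S} {fst : P ⟶ F} {snd : P ⟶ H} {f : F ⟶ G} {g : H ⟶ G}
    (sq : IsPullback fst snd f g) [Epi g] : Epi fst := by
  have := isLocallySurjective_of_epi g
  have : Sheaf.IsLocallySurjective fst := by
    apply isLocallySurjective_of_liftSieve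
    intro T σ
    refine (J S).superset_covering ?_ (liftSieve_mem g (σ ≫ f))
    rintro T' k ⟨τ, hτ⟩
    refine ⟨sq.lift ((yon S).map k ≫ σ) τ (by rw [Category.assoc, hτ]), sq.lift_fst _ _ _⟩
  infer_instance

theorem epi_snd_of_isPullback {P F G H : Sp S} {fst : P ⟶ F} {snd : P ⟶ H} {f : F ⟶ G} {g : H ⟶ G}
    (sq : IsPullback fst snd f g) [Epi f] : Epi snd :=
  epi_fst_of_isPullback sq.flip

/-- If `q : U ⟶ M` is an epimorphism coequalizing `s, t` and `(t, s) : R ⟶ U ×_M U` is an
epimorphism, then `U/R ⟶ M` is an isomorphism. -/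
theorem isIso_quotSpDesc {R U M : Sp S} (s t : R ⟶ U) (q : U ⟶ M) (w : s ≫ q = t ≫ q) [Epi q]
    [Epi (pullback.lift t s w.symm : R ⟶ pullback q q)] : IsIso (quotSpDesc q w) := by
  have := isLocallySurjective_of_epi q
  have sq : IsPullback (pullback.fst q q) (pullback.snd q q) q q := IsPullback.of_hasPullback q q
  obtain ⟨hc⟩ := nonempty_isColimit_cofork_of_isLocallySurjective q sq
  have hπ : pullback.fst q q ≫ quotSpπ s t = pullback.snd q q ≫ quotSpπ s t := by
    rw [← cancel_epi (pullback.lift t s w.symm : R ⟶ pullback q q), pullback.lift_fst_assoc,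
      pullback.lift_snd_assoc, quotSp_condition]
  let ψ : M ⟶ quotSp s t := Cofork.IsColimit.desc hc (quotSpπ s t) hπ
  have hψ : q ≫ ψ = quotSpπ s t := Cofork.IsColimit.π_desc hc
  refine ⟨ψ, ?_, ?_⟩
  · rw [← cancel_epi (quotSpπ s t), quotSpπ_desc_assoc, hψ, Category.comp_id]
  · rw [← cancel_epi q, ← Category.assoc, hψ, quotSpπ_desc, Category.comp_id]

section rel

variable {R U : Sp S} (s t : R ⟶ U)

/-- The sieve on which two points of `U` are related by `R`. -/
def relSieve {T : Over S} (a b : (yon S).obj T ⟶ U) : Sieve T where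
  arrows T' k := ∃ ρ : (yon S).obj T' ⟶ R, ρ ≫ t = (yon S).map k ≫ a ∧ ρ ≫ s = (yon S).map k ≫ b
  downward_closed := by
    rintro T' T'' k ⟨ρ, h1, h2⟩ l
    refine ⟨(yon S).map l ≫ ρ, ?_, ?_⟩
    · rw [Category.assoc, h1, Functor.map_comp, Category.assoc]
    · rw [Category.assoc, h2, Functor.map_comp, Category.assoc]

lemma rel_iff (T : Over S) (a b : (yon S).obj T ⟶ U) :
    QuotCore.rel s t (op T) (yEquiv U T a) (yEquiv U T b) ↔
      ∃ ρ : (yon S).obj T ⟶ R, ρ ≫ t = a ∧ ρ ≫ s = b := by
  constructor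
  · rintro ⟨r, h1, h2⟩
    refine ⟨(yEquiv R T).symm r, ?_, ?_⟩
    · apply (yEquiv U T).injective
      rw [yEquiv_comp, Equiv.apply_symm_apply, h1]
    · apply (yEquiv U T).injective
      rw [yEquiv_comp, Equiv.apply_symm_apply, h2]
  · rintro ⟨ρ, rfl, rfl⟩
    exact ⟨yEquiv R T ρ, (yEquiv_comp ρ t).symm, (yEquiv_comp ρ s).symm⟩

lemma rel_equivalence (hpre : IsPreEqvRelSp s t) (X : (Over S)ᵒᵖ) :
    Equivalence (QuotCore.rel s t X) := by
  obtain ⟨T⟩ := X
  have key : ∀ a b : U.obj.obj (op T), QuotCore.rel s t (op T) a b ↔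
      ∃ ρ : (yon S).obj T ⟶ R, ρ ≫ t = (yEquiv U T).symm a ∧ ρ ≫ s = (yEquiv U T).symm b := by
    intro a b
    have := rel_iff s t T ((yEquiv U T).symm a) ((yEquiv U T).symm b)
    rwa [Equiv.apply_symm_apply, Equiv.apply_symm_apply] at this
  have h := hpre T
  refine ⟨fun a => (key a a).mpr (h.refl _), fun {a b} hab => (key b a).mpr (h.symm ((key a b).mp hab)),
    fun {a b c} hab hbc => (key a c).mpr (h.trans ((key a b).mp hab) ((key b c).mp hbc))⟩

/-- For a pre-equivalence relation, two points of `U` with the same image in `U/R` are locally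
related. -/
theorem relSieve_mem (hpre : IsPreEqvRelSp s t) {T : Over S} (a b : (yon S).obj T ⟶ U)
    (hab : a ≫ quotSpπ s t = b ≫ quotSpπ s t) : relSieve s t a b ∈ J S T := by
  have hab' : (quotSpπ s t).hom.app (op T) (yEquiv U T a) = (quotSpπ s t).hom.app (op T) (yEquiv U T b) := by
    rw [← yEquiv_comp, ← yEquiv_comp, hab]
  obtain ⟨W, hW, hWr⟩ := QuotCore.rel_locally_of_eq (quotSpπ s t) (quotSp_condition s t)
    (quotSpIsCoequalizer s t) (rel_equivalence s t hpre) (X := op T) _ _ hab'
  refine (J S).superset_covering ?_ hW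
  intro T' k hk
  have h1 := hWr k hk
  have e1 : U.obj.map k.op (yEquiv U T a) = yEquiv U T' ((yon S).map k ≫ a) :=
    (J S).uliftYonedaEquiv_naturality a k
  have e2 : U.obj.map k.op (yEquiv U T b) = yEquiv U T' ((yon S).map k ≫ b) :=
    (J S).uliftYonedaEquiv_naturality b k
  rw [e1, e2, rel_iff] at h1
  exact h1

/-- Conversely, locally related points have the same image in the quotient. -/
theorem eq_of_relSieve_mem {T : Over S} (a b : (yon S).obj T ⟶ U)
    (h : relSieve s t a b ∈ J S T) : a ≫ quotSpπ s t = b ≫ quotSpπ s t := by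
  apply yon_hom_ext_of_mem_J h
  rintro T' k ⟨ρ, h1, h2⟩
  rw [← Category.assoc, ← Category.assoc, ← h1, ← h2, Category.assoc, Category.assoc,
    quotSp_condition]

/-- Points of the quotient lift locally to `U`. -/
theorem liftSieve_quotSpπ_mem {T : Over S} (x : (yon S).obj T ⟶ quotSp s t) :
    liftSieve (quotSpπ s t) x ∈ J S T := by
  have := isLocallySurjective_of_epi (quotSpπ s t)
  exact liftSieve_mem _ x

/-- For a pre-equivalence relation, `(t, s) : R ⟶ U ×_{U/R} U` is an epimorphism. -/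
theorem epi_lift_of_isPreEqvRelSp (hpre : IsPreEqvRelSp s t) :
    Epi (pullback.lift t s (quotSp_condition s t).symm :
      R ⟶ pullback (quotSpπ s t) (quotSpπ s t)) := by
  have : Sheaf.IsLocallySurjective (pullback.lift t s (quotSp_condition s t).symm :
      R ⟶ pullback (quotSpπ s t) (quotSpπ s t)) := by
    apply isLocallySurjective_of_liftSieve
    intro T σ
    refine (J S).superset_covering ?_ (relSieve_mem s t hpre (σ ≫ pullback.fst _ _)
      (σ ≫ pullback.snd _ _) (by rw [Category.assoc, pullback.condition, Category.assoc]))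
    rintro T' k ⟨ρ, h1, h2⟩
    refine ⟨ρ, ?_⟩
    apply pullback.hom_ext
    · rw [Category.assoc, pullback.lift_fst, h1, Category.assoc]
    · rw [Category.assoc, pullback.lift_snd, h2, Category.assoc]
  infer_instance

end rel

end Groth.Agent.H8.AlgSp
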