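import Groth.Agent.Lib.Helper5.AlgSp.LocPCalc
import Groth.Agent.Lib.Helper5.AlgSp.UnivTop

/-!
# Morphisms to the spectrum of a field are flat and universally open
-/

set_option autoImplicit false

universe u

open CategoryTheory CategoryTheory.Limits AlgebraicGeometry Opposite

namespace Groth.Agent.H8.AlgSp

open _root_.AlgSp Groth.Agent.H5.AlgSp Groth.Agent.H5.EtSrc

variable {S : Scheme.{u}}

/-- Algebraic spaces are stable under isomorphism. -/
theorem isAlgSpace_of_iso {F F' : Sp S} (e : F' ≅ F) (hF : IsAlgSpace F) : IsAlgSpace F' :=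
  isAlgSpace_pullback hF.diag hF hF
    (IsPullback.of_horiz_isIso (fst := e.hom) (snd := e.hom) (f := 𝟙 F) (g := 𝟙 F) ⟨by simp⟩)

/-- `UnivSp Q` is stable under base change. -/
theorem univSp_baseChange {Q : MorphismProperty (Sp S)} {F G F' G' : Sp S} {f : F ⟶ G}
    {g : G' ⟶ G} {fst : F' ⟶ F} {f' : F' ⟶ G'} (sq : IsPullback fst f' f g) (hf : UnivSp Q f) :
    UnivSp Q f' := by
  intro Z Z' hZ g' fst' snd' sq'
  exact hf hZ (g' ≫ g) (fst' ≫ fst) snd' (sq'.paste_horiz sq)

/-- A morphism from an algebraic space to the spectrum of a field is flat. -/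
theorem locP_flat_of_field {F : Sp S} {T : Over S} [IsIntegral T.left] [Subsingleton T.left]
    (f : F ⟶ (yon S).obj T) : LocP @Flat f := by
  intro U V a b h ha hb comm
  obtain ⟨b', rfl⟩ := (yon S).map_surjective b
  have hb' : Etale b'.left := (repWith_yon_map_iff @Etale b').1 hb
  have h1 : Flat (h.left ≫ b'.left) := inferInstance
  exact (hasOfPostcompProperty_etale (P := @Flat) (fun _ _ g hg => by
    have : Etale g := hg
    infer_instance)).of_postcomp h.left b'.left hb' h1

/-- A morphism from an algebraic space to the spectrum of a field is universally open. -/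
theorem isUnivOpenMor_of_field {F : Sp S} (hF : IsAlgSpace F) {T : Over S} [IsIntegral T.left]
    [Subsingleton T.left] (f : F ⟶ (yon S).obj T) : IsUnivOpenMor f := by
  obtain ⟨U, a, hae, has⟩ := hF.atlas
  obtain ⟨h, hh⟩ := (yon S).map_surjective (a ≫ f)
  have h3 : UniversallyOpen h.left := inferInstance
  have h4 : IsUnivOpenMor ((yon S).map h) :=
    (repWith_universallyOpen_iff (representable_yon_map h)).1 ((repWith_yon_map_iff _ h).2 h3)
  rw [hh] at h4
  exact univSp_isOpenMor_of_comp_surjective has h4

/-- Any base change of a morphism from an algebraic space to the spectrum of a field is flat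
and universally open. -/
theorem flat_univOpen_of_isPullback_field {F F' G' : Sp S} (hF : IsAlgSpace F)
    (hG' : IsAlgSpace G') {T : Over S} [IsIntegral T.left] [Subsingleton T.left]
    {f : F ⟶ (yon S).obj T} {g : G' ⟶ (yon S).obj T} {fst : F' ⟶ F} {f' : F' ⟶ G'}
    (sq : IsPullback fst f' f g) : LocP @Flat f' ∧ IsUnivOpenMor f' :=
  ⟨locP_of_isPullback (P := @Flat) (fun _ _ g hg => by
      have : Etale g := hg
      infer_instance) sq hF (IsAlgSpace.yon_obj T) hG' (locP_flat_of_field f),
    univSp_baseChange sq (isUnivOpenMor_of_field hF f)⟩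

end Groth.Agent.H8.AlgSp
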