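import Groth.Agent.Lib.Helper8.AlgSp.Gpd

/-!
# The stabilizer of a groupoid: points and conjugation
-/

set_option autoImplicit false

universe u

open CategoryTheory CategoryTheory.Limits AlgebraicGeometry Opposite

namespace Groth.Agent.H8.AlgSp

open _root_.AlgSp Groth.Agent.H5.AlgSp

variable {S : Scheme.{u}} {B : Sp S} (G : GroupoidSp B)

namespace GroupoidSp

variable {T T' : Sp S}

lemma stabilizerι_t : G.stabilizerι ≫ G.t = G.stabilizerToU := by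
  have h1 : G.stabilizerι ≫ G.j = G.stabilizerToU ≫ G.diag := pullback.condition
  have h3 := congrArg (· ≫ pullback.fst G.pU G.pU) h1
  simpa only [Category.assoc, _root_.AlgSp.GroupoidSp.j_fst, _root_.AlgSp.GroupoidSp.diag,
    pullback.lift_fst, Category.comp_id] using h3

lemma stabilizerι_s : G.stabilizerι ≫ G.s = G.stabilizerToU := by
  have h1 : G.stabilizerι ≫ G.j = G.stabilizerToU ≫ G.diag := pullback.condition
  have h3 := congrArg (· ≫ pullback.snd G.pU G.pU) h1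
  simpa only [Category.assoc, _root_.AlgSp.GroupoidSp.j_snd, _root_.AlgSp.GroupoidSp.diag,
    pullback.lift_snd, Category.comp_id] using h3

/-- A `T`-point of the stabilizer from an arrow with equal source and target. -/
noncomputable def stabMk (γ : T ⟶ G.R) (h : γ ≫ G.t = γ ≫ G.s) : T ⟶ G.stabilizer :=
  pullback.lift γ (γ ≫ G.s) (by
    apply pullback.hom_ext
    · rw [Category.assoc, Category.assoc, _root_.AlgSp.GroupoidSp.j_fst,
        _root_.AlgSp.GroupoidSp.diag, pullback.lift_fst, Category.comp_id, h]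
    · rw [Category.assoc, Category.assoc, _root_.AlgSp.GroupoidSp.j_snd,
        _root_.AlgSp.GroupoidSp.diag, pullback.lift_snd, Category.comp_id])

@[simp] lemma stabMk_ι (γ : T ⟶ G.R) (h : γ ≫ G.t = γ ≫ G.s) :
    stabMk G γ h ≫ G.stabilizerι = γ := pullback.lift_fst _ _ _

@[simp] lemma stabMk_toU (γ : T ⟶ G.R) (h : γ ≫ G.t = γ ≫ G.s) :
    stabMk G γ h ≫ G.stabilizerToU = γ ≫ G.s := pullback.lift_snd _ _ _

lemma stab_hom_ext (a b : T ⟶ G.stabilizer) (h : a ≫ G.stabilizerι = b ≫ G.stabilizerι) :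
    a = b := by
  apply pullback.hom_ext
  · exact h
  · change a ≫ G.stabilizerToU = b ≫ G.stabilizerToU
    rw [← stabilizerι_s, ← Category.assoc, h, Category.assoc]

/-- `ρ⁻¹ ∘ γ ∘ ρ`. -/
noncomputable def conj₁ (ρ γ : T ⟶ G.R) (h : γ ≫ G.s = ρ ≫ G.t) (ht : γ ≫ G.t = ρ ≫ G.t) :
    T ⟶ G.R :=
  comp G (ρ ≫ G.i) (comp G γ ρ h) (by rw [comp_t', Category.assoc, G.i_s, ht])

/-- `ρ ∘ γ ∘ ρ⁻¹`. -/
noncomputable def conj₂ (ρ γ : T ⟶ G.R) (h : γ ≫ G.s = ρ ≫ G.s) (ht : γ ≫ G.t = ρ ≫ G.s) :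
    T ⟶ G.R :=
  comp G ρ (comp G γ (ρ ≫ G.i) (by rw [Category.assoc, G.i_t, h]))
    (by rw [comp_t', ht])

lemma conj₁_s (ρ γ : T ⟶ G.R) (h : γ ≫ G.s = ρ ≫ G.t) (ht : γ ≫ G.t = ρ ≫ G.t) :
    conj₁ G ρ γ h ht ≫ G.s = ρ ≫ G.s := by
  rw [conj₁, comp_s', comp_s']

lemma conj₁_t (ρ γ : T ⟶ G.R) (h : γ ≫ G.s = ρ ≫ G.t) (ht : γ ≫ G.t = ρ ≫ G.t) :
    conj₁ G ρ γ h ht ≫ G.t = ρ ≫ G.s := by
  rw [conj₁, comp_t', Category.assoc, G.i_t]

lemma conj₂_s (ρ γ : T ⟶ G.R) (h : γ ≫ G.s = ρ ≫ G.s) (ht : γ ≫ G.t = ρ ≫ G.s) :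
    conj₂ G ρ γ h ht ≫ G.s = ρ ≫ G.t := by
  rw [conj₂, comp_s', comp_s', Category.assoc, G.i_s]

lemma conj₂_t (ρ γ : T ⟶ G.R) (h : γ ≫ G.s = ρ ≫ G.s) (ht : γ ≫ G.t = ρ ≫ G.s) :
    conj₂ G ρ γ h ht ≫ G.t = ρ ≫ G.t := by
  rw [conj₂, comp_t']

lemma conj₁_congr {ρ ρ' γ γ' : T ⟶ G.R} (hρ : ρ = ρ') (hγ : γ = γ') (h : γ ≫ G.s = ρ ≫ G.t)
    (ht : γ ≫ G.t = ρ ≫ G.t) :
    conj₁ G ρ γ h ht = conj₁ G ρ' γ' (by rw [← hρ, ← hγ, h]) (by rw [← hρ, ← hγ, ht]) := by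
  subst hρ; subst hγ; rfl

lemma conj₂_congr {ρ ρ' γ γ' : T ⟶ G.R} (hρ : ρ = ρ') (hγ : γ = γ') (h : γ ≫ G.s = ρ ≫ G.s)
    (ht : γ ≫ G.t = ρ ≫ G.s) :
    conj₂ G ρ γ h ht = conj₂ G ρ' γ' (by rw [← hρ, ← hγ, h]) (by rw [← hρ, ← hγ, ht]) := by
  subst hρ; subst hγ; rfl

lemma precomp_conj₁ (f : T' ⟶ T) (ρ γ : T ⟶ G.R) (h : γ ≫ G.s = ρ ≫ G.t)
    (ht : γ ≫ G.t = ρ ≫ G.t) :
    f ≫ conj₁ G ρ γ h ht = conj₁ G (f ≫ ρ) (f ≫ γ)
      (by rw [Category.assoc, Category.assoc, h]) (by rw [Category.assoc, Category.assoc, ht]) := by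
  unfold conj₁
  rw [precomp_comp]
  exact comp_congr G (Category.assoc _ _ _).symm (precomp_comp G f γ ρ h) _

lemma precomp_conj₂ (f : T' ⟶ T) (ρ γ : T ⟶ G.R) (h : γ ≫ G.s = ρ ≫ G.s)
    (ht : γ ≫ G.t = ρ ≫ G.s) :
    f ≫ conj₂ G ρ γ h ht = conj₂ G (f ≫ ρ) (f ≫ γ)
      (by rw [Category.assoc, Category.assoc, h]) (by rw [Category.assoc, Category.assoc, ht]) := by
  unfold conj₂
  rw [precomp_comp]
  refine comp_congr G rfl ?_ _
  rw [precomp_comp]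
  exact comp_congr G rfl (Category.assoc _ _ _).symm _

/-- `ρ ∘ (ρ⁻¹ ∘ γ ∘ ρ) ∘ ρ⁻¹ = γ`. -/
lemma conj₂_conj₁ (ρ γ : T ⟶ G.R) (h : γ ≫ G.s = ρ ≫ G.t) (ht : γ ≫ G.t = ρ ≫ G.t) :
    conj₂ G ρ (conj₁ G ρ γ h ht) (conj₁_s G ρ γ h ht) (conj₁_t G ρ γ h ht) = γ := by
  unfold conj₂ conj₁
  -- `(ρ⁻¹ ∘ (γ ∘ ρ)) ∘ ρ⁻¹ = ρ⁻¹ ∘ ((γ ∘ ρ) ∘ ρ⁻¹) = ρ⁻¹ ∘ γ`
  have e1 : comp G (comp G (ρ ≫ G.i) (comp G γ ρ h)
      (by rw [comp_t', Category.assoc, G.i_s, ht]))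
      (ρ ≫ G.i) (by rw [comp_s', comp_s', Category.assoc, G.i_t]) =
      comp G (ρ ≫ G.i) γ (by rw [Category.assoc, G.i_s, ht]) := by
    rw [comp_assoc' G (ρ ≫ G.i) (comp G γ ρ h) (ρ ≫ G.i)
      (by rw [comp_t', Category.assoc, G.i_s, ht]) (by rw [comp_s', Category.assoc, G.i_t])]
    exact comp_congr G rfl (comp_comp_inv G γ ρ h) _
  rw [comp_congr G rfl e1]
  exact comp_inv_comp_left G ρ γ ht.symm

/-- `ρ⁻¹ ∘ (ρ ∘ γ ∘ ρ⁻¹) ∘ ρ = γ`. -/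
lemma conj₁_conj₂ (ρ γ : T ⟶ G.R) (h : γ ≫ G.s = ρ ≫ G.s) (ht : γ ≫ G.t = ρ ≫ G.s) :
    conj₁ G ρ (conj₂ G ρ γ h ht) (conj₂_s G ρ γ h ht) (conj₂_t G ρ γ h ht) = γ := by
  unfold conj₁ conj₂
  -- `(ρ ∘ (γ ∘ ρ⁻¹)) ∘ ρ = ρ ∘ ((γ ∘ ρ⁻¹) ∘ ρ) = ρ ∘ γ`
  have e1 : comp G (comp G ρ (comp G γ (ρ ≫ G.i) (by rw [Category.assoc, G.i_t, h]))
      (by rw [comp_t', ht])) ρ (by rw [comp_s', comp_s', Category.assoc, G.i_s]) =
      comp G ρ γ ht.symm := by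
    rw [comp_assoc' G ρ (comp G γ (ρ ≫ G.i) (by rw [Category.assoc, G.i_t, h])) ρ
      (by rw [comp_t', ht]) (by rw [comp_s', Category.assoc, G.i_s])]
    exact comp_congr G rfl (comp_inv_comp G γ ρ h) _
  rw [comp_congr G rfl e1]
  exact inv_comp_comp G ρ γ ht.symm

/-- The base changes of the stabilizer along `s` and along `t` agree (by conjugation), over any
`v : V ⟶ R`. -/
theorem exists_common_baseChange_stabilizer {V : Sp S} (v : V ⟶ G.R) :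
    ∃ (Y : Sp S) (p : Y ⟶ V) (q₁ q₂ : Y ⟶ G.stabilizer),
      IsPullback q₁ p G.stabilizerToU (v ≫ G.t) ∧ IsPullback q₂ p G.stabilizerToU (v ≫ G.s) := by
  have sq₁ := IsPullback.of_hasPullback G.stabilizerToU (v ≫ G.t)
  set fY := pullback.fst G.stabilizerToU (v ≫ G.t) with hfY
  set sY := pullback.snd G.stabilizerToU (v ≫ G.t) with hsY
  have hγs : (fY ≫ G.stabilizerι) ≫ G.s = (sY ≫ v) ≫ G.t := by
    rw [Category.assoc, stabilizerι_s, Category.assoc]; exact sq₁.w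
  have hγt : (fY ≫ G.stabilizerι) ≫ G.t = (sY ≫ v) ≫ G.t := by
    rw [Category.assoc, stabilizerι_t, Category.assoc]; exact sq₁.w
  let q₂ : pullback G.stabilizerToU (v ≫ G.t) ⟶ G.stabilizer :=
    stabMk G (conj₁ G (sY ≫ v) (fY ≫ G.stabilizerι) hγs hγt) (by rw [conj₁_t, conj₁_s])
  have hq₂ι : q₂ ≫ G.stabilizerι = conj₁ G (sY ≫ v) (fY ≫ G.stabilizerι) hγs hγt :=
    stabMk_ι G _ _
  refine ⟨_, sY, fY, q₂, sq₁, ?_⟩
  have key : ∀ c : PullbackCone G.stabilizerToU (v ≫ G.s),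
      ∃ l : c.pt ⟶ pullback G.stabilizerToU (v ≫ G.t), l ≫ q₂ = c.fst ∧ l ≫ sY = c.snd ∧
        ∀ m : c.pt ⟶ pullback G.stabilizerToU (v ≫ G.t), m ≫ q₂ = c.fst → m ≫ sY = c.snd →
          m = l := by
    intro c
    have hs : (c.fst ≫ G.stabilizerι) ≫ G.s = (c.snd ≫ v) ≫ G.s := by
      rw [Category.assoc, stabilizerι_s, Category.assoc]; exact c.condition
    have ht : (c.fst ≫ G.stabilizerι) ≫ G.t = (c.snd ≫ v) ≫ G.s := by
      rw [Category.assoc, stabilizerι_t, Category.assoc]; exact c.condition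
    let a : c.pt ⟶ G.stabilizer :=
      stabMk G (conj₂ G (c.snd ≫ v) (c.fst ≫ G.stabilizerι) hs ht) (by rw [conj₂_t, conj₂_s])
    have haι : a ≫ G.stabilizerι = conj₂ G (c.snd ≫ v) (c.fst ≫ G.stabilizerι) hs ht :=
      stabMk_ι G _ _
    have hcond : a ≫ G.stabilizerToU = c.snd ≫ v ≫ G.t := by
      have := conj₂_s G (c.snd ≫ v) (c.fst ≫ G.stabilizerι) hs ht
      rw [← haι, Category.assoc, stabilizerι_s, Category.assoc] at this
      exact this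
    refine ⟨pullback.lift a c.snd hcond, ?_, pullback.lift_snd _ _ _, ?_⟩
    · apply stab_hom_ext
      rw [Category.assoc, hq₂ι, precomp_conj₁]
      have e1 : pullback.lift a c.snd hcond ≫ sY ≫ v = c.snd ≫ v := by
        rw [← Category.assoc, hsY, pullback.lift_snd]
      have e2 : pullback.lift a c.snd hcond ≫ fY ≫ G.stabilizerι =
          conj₂ G (c.snd ≫ v) (c.fst ≫ G.stabilizerι) hs ht := by
        rw [← Category.assoc, hfY, pullback.lift_fst, haι]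
      rw [conj₁_congr G e1 e2]
      exact conj₁_conj₂ G _ _ hs ht
    · intro m hm1 hm2
      apply pullback.hom_ext
      · rw [pullback.lift_fst]
        apply stab_hom_ext
        rw [haι]
        have hms : (m ≫ fY ≫ G.stabilizerι) ≫ G.s = (c.snd ≫ v) ≫ G.t := by
          rw [← hm2, Category.assoc m, hγs]; simp only [Category.assoc]
        have hmt : (m ≫ fY ≫ G.stabilizerι) ≫ G.t = (c.snd ≫ v) ≫ G.t := by
          rw [← hm2, Category.assoc m, hγt]; simp only [Category.assoc]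
        have e3 : c.fst ≫ G.stabilizerι =
            conj₁ G (c.snd ≫ v) (m ≫ fY ≫ G.stabilizerι) hms hmt := by
          rw [← hm1, Category.assoc, hq₂ι, precomp_conj₁]
          exact conj₁_congr G (by rw [← Category.assoc, hm2]) rfl _ _
        rw [conj₂_congr G rfl e3]
        rw [Category.assoc]
        exact (conj₂_conj₁ G _ _ _ _).symm
      · rw [pullback.lift_snd]
        exact hm2
  refine ⟨⟨?_⟩, ⟨PullbackCone.IsLimit.mk _ (fun c => (key c).choose)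
    (fun c => (key c).choose_spec.1) (fun c => (key c).choose_spec.2.1)
    (fun c m h1 h2 => (key c).choose_spec.2.2 m h1 h2)⟩⟩
  have := conj₁_s G (sY ≫ v) (fY ≫ G.stabilizerι) hγs hγt
  rw [← hq₂ι, Category.assoc, stabilizerι_s, Category.assoc] at this
  exact this

end GroupoidSp

end Groth.Agent.H8.AlgSp
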