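import Groth.Prelude.Def_AlgSpGpd
import Groth.Agent.Lib.Helper5.AlgSp.Basic

/-!
# Group actions in sheaves over `B`: action on points
-/

set_option autoImplicit false

universe u

open CategoryTheory CategoryTheory.Limits AlgebraicGeometry Opposite MonoidalCategory
  CartesianMonoidalCategory MonObj

namespace Groth.Agent.H8.AlgSp

open _root_.AlgSp Groth.Agent.H5.AlgSp

variable {S : Scheme.{u}} {B : Sp S} {G X : Over B} [GrpObj G] (a : GAction G X)

/-- The action on `T`-points. -/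
noncomputable def actPt {T : Over B} (g : T ⟶ G) (x : T ⟶ X) : T ⟶ X := lift g x ≫ a.act

lemma one_actPt {T : Over B} (x : T ⟶ X) : actPt a 1 x = x := by
  rw [actPt, Hom.one_def, ← lift_whiskerRight, Category.assoc, a.one_act, lift_leftUnitor_hom]

lemma mul_actPt {T : Over B} (g h : T ⟶ G) (x : T ⟶ X) :
    actPt a (g * h) x = actPt a g (actPt a h x) := by
  rw [actPt, Hom.mul_def, ← lift_whiskerRight, Category.assoc, a.mul_act,
    lift_lift_associator_hom_assoc, lift_whiskerLeft_assoc]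
  rfl

theorem eq_of_actPt_eq (ha : a.IsFree) {T : Over S} (β : (yon S).obj T ⟶ B)
    (g₁ g₂ : Over.mk β ⟶ G) (x : Over.mk β ⟶ X) (h : actPt a g₁ x = actPt a g₂ x) : g₁ = g₂ := by
  have h1 : actPt a (g₂⁻¹ * g₁) x = x := by
    rw [mul_actPt, h, ← mul_actPt, inv_mul_cancel, one_actPt]
  have h2 : g₂⁻¹ * g₁ = 1 := ha β (g₂⁻¹ * g₁) x h1
  exact (inv_mul_eq_one.mp h2).symm

/-- A free action gives a monomorphism `(g, x) ↦ (g x, x)`. -/
theorem mono_lift_act_of_isFree (ha : a.IsFree) :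
    Mono (lift a.act (snd G X)).left := by
  apply mono_of_yon
  intro T z₁ z₂ hz
  have hβ : z₂ ≫ (G ⊗ X).hom = z₁ ≫ (G ⊗ X).hom := by
    rw [← Over.w (lift a.act (snd G X)), ← Category.assoc, ← hz, Category.assoc]
  let Z₁ : Over.mk (z₁ ≫ (G ⊗ X).hom) ⟶ G ⊗ X := Over.homMk z₁ rfl
  let Z₂ : Over.mk (z₁ ≫ (G ⊗ X).hom) ⟶ G ⊗ X := Over.homMk z₂ hβ
  have hZ : Z₁ ≫ lift a.act (snd G X) = Z₂ ≫ lift a.act (snd G X) :=
    Over.OverMorphism.ext hz
  have hx : Z₁ ≫ snd G X = Z₂ ≫ snd G X := by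
    have := congrArg (· ≫ snd X X) hZ
    simpa only [Category.assoc, lift_snd] using this
  have hact : Z₁ ≫ a.act = Z₂ ≫ a.act := by
    have := congrArg (· ≫ fst X X) hZ
    simpa only [Category.assoc, lift_fst] using this
  have e₁ : Z₁ = lift (Z₁ ≫ fst G X) (Z₁ ≫ snd G X) := (lift_comp_fst_snd Z₁).symm
  have e₂ : Z₂ = lift (Z₂ ≫ fst G X) (Z₂ ≫ snd G X) := (lift_comp_fst_snd Z₂).symm
  have hg : Z₁ ≫ fst G X = Z₂ ≫ fst G X := by
    apply eq_of_actPt_eq a ha _ _ _ (Z₁ ≫ snd G X)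
    change lift (Z₁ ≫ fst G X) (Z₁ ≫ snd G X) ≫ a.act = lift (Z₂ ≫ fst G X) (Z₁ ≫ snd G X) ≫ a.act
    rw [← e₁, hx, ← e₂, hact]
  have hZZ : Z₁ = Z₂ := by rw [e₁, e₂, hg, hx]
  exact congrArg (fun Z => Z.left) hZZ

end Groth.Agent.H8.AlgSp
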