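import Groth.Agent.Lib.Helper8.AlgSp.Quot
import Groth.Agent.Lib.Helper8.AlgSp.MorCalc
import Groth.Agent.Lib.Helper5.AlgSp.LocPCalc
import Groth.Agent.Lib.Helper5.AlgSp.LocalBase
import Groth.Agent.Lib.Helper5.AlgSp.OpenSubspace

/-!
# Descent of `LocP P` along locally surjective base changes; quotients by equivalence relations
-/

set_option autoImplicit false

universe u

open CategoryTheory CategoryTheory.Limits AlgebraicGeometry Opposite

namespace Groth.Agent.H8.AlgSp

open _root_.AlgSp Groth.Agent.H5.AlgSp Groth.Agent.H5.EtSrc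

variable {S : Scheme.{u}}

/-- A locally surjective morphism of sheaves is surjective on points. -/
theorem isSurjectiveMor_of_isLocallySurjective {F G : Sp S} (f : F ⟶ G)
    [Sheaf.IsLocallySurjective f] : IsSurjectiveMor f := by
  intro x
  obtain ⟨K, _, str, ξ, rfl⟩ := exists_fpOfHom x
  obtain ⟨V, g, ⟨y, hy⟩, v, hv⟩ := exists_mem_range_of_mem_J (liftSieve_mem f ξ)
    (IsLocalRing.closedPoint K : ↥(Over.mk str).left)
  refine ⟨Points.ofPt y v, ?_⟩
  rw [Points.map_ofPt, hy, ofPt_yon_map_comp, hv, ofPt_closedPoint]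

/-- `LocP P` descends along base change by a locally surjective morphism, for `P` local on the
target for the fppf topology. -/
theorem locP_of_locallySurjective_baseChange {P : MorphismProperty Scheme.{u}}
    [P.IsStableUnderBaseChange] [P.IsStableUnderComposition] [IsEtaleLocalSource P]
    (hP : (@Etale : MorphismProperty Scheme.{u}) ≤ P) [P.IsLocalAtTarget Scheme.fppfPrecoverage]
    {F G H Q : Sp S} (hF : IsAlgSpace F) (hG : IsAlgSpace G) (hH : IsAlgSpace H)
    {a : F ⟶ G} {b : H ⟶ G} [Sheaf.IsLocallySurjective b] {b' : Q ⟶ F} {a' : Q ⟶ H}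
    (sq : IsPullback b' a' a b) (h : LocP P a') : LocP P a := by
  intro A V a₀ b₀ k ha₀ hb₀ comm
  have hQ : IsAlgSpace Q := isAlgSpace_pullback hG.diag hF hH sq
  obtain ⟨R₀, hR₀, hle⟩ := (mem_J_iff _).1 (liftSieve_mem b b₀)
  refine MorphismProperty.IsLocalAtTarget.of_forall_pullbackSnd (P := P) hR₀ ?_
  rintro W g _ ⟨hg₀⟩
  rename_i V' g₀ _
  obtain ⟨η', hη'⟩ := hle _ _ hg₀
  -- `F_V = F ×_G V`, `F' = F_V ×_V V'`
  have sqV := IsPullback.of_hasPullback a b₀
  have hfstV : RepWith @Etale (pullback.fst a b₀) :=
    MorphismProperty.of_isPullback (P := RepWith @Etale) sqV.flip hb₀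
  have hc : RepWith @Etale (pullback.lift a₀ ((yon S).map k) comm : _ ⟶ pullback a b₀) :=
    repWith_etale_of_comp (by rw [pullback.lift_fst]; exact ha₀) hfstV
  have sqF' := IsPullback.of_hasPullback (pullback.snd a b₀) ((yon S).map g₀)
  have big : IsPullback (pullback.fst (pullback.snd a b₀) ((yon S).map g₀) ≫ pullback.fst a b₀)
      (pullback.snd (pullback.snd a b₀) ((yon S).map g₀)) a (η' ≫ b) := by
    rw [hη']
    exact sqF'.paste_horiz sqV
  have hw : (pullback.fst (pullback.snd a b₀) ((yon S).map g₀) ≫ pullback.fst a b₀) ≫ a =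
      (pullback.snd (pullback.snd a b₀) ((yon S).map g₀) ≫ η') ≫ b := by
    rw [Category.assoc _ η' b]; exact big.w
  have left : IsPullback (sq.lift _ _ hw) (pullback.snd (pullback.snd a b₀) ((yon S).map g₀))
      a' η' := by
    apply IsPullback.of_right (h₁₂ := b') (h₂₂ := b) _ (sq.lift_snd _ _ _) sq
    rw [sq.lift_fst]; exact big
  have hLoc : LocP P (pullback.snd (pullback.snd a b₀) ((yon S).map g₀)) :=
    locP_of_isPullback hP left hQ hH (IsAlgSpace.yon_obj V') h
  -- the chart of `F'`
  have sqO := IsPullback.of_hasPullback k g₀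
  have sqY := sqO.map (yon S)
  have hw' : ((yon S).map (pullback.fst k g₀) ≫ pullback.lift a₀ ((yon S).map k) comm) ≫
      pullback.snd a b₀ = (yon S).map (pullback.snd k g₀) ≫ (yon S).map g₀ := by
    rw [Category.assoc, pullback.lift_snd]
    exact sqY.w
  have sqc : IsPullback (sqF'.lift _ _ hw') ((yon S).map (pullback.fst k g₀))
      (pullback.fst (pullback.snd a b₀) ((yon S).map g₀))
      (pullback.lift a₀ ((yon S).map k) comm) := by
    apply IsPullback.of_right (h₁₂ := pullback.snd (pullback.snd a b₀) ((yon S).map g₀))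
      (h₂₂ := pullback.snd a b₀) _ (sqF'.lift_fst _ _ _) sqF'.flip
    rw [sqF'.lift_snd, pullback.lift_snd]
    exact sqY.flip
  have hc' : RepWith @Etale (sqF'.lift _ _ hw') :=
    MorphismProperty.of_isPullback (P := RepWith @Etale) sqc.flip hc
  have hPk : P (pullback.snd k g₀).left :=
    hLoc (sqF'.lift _ _ hw') (𝟙 _) (pullback.snd k g₀) hc' (repWith_id _ V')
      (by rw [sqF'.lift_snd, Category.comp_id])
  have sqS : IsPullback (pullback.fst k g₀).left (pullback.snd k g₀).left k.left g₀.left :=
    sqO.map (Over.forget S)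
  have : P.RespectsIso := MorphismProperty.IsStableUnderBaseChange.respectsIso
  have e := sqS.isoPullback_hom_snd
  change P (pullback.snd k.left g₀.left)
  rw [← P.cancel_left_of_respectsIso sqS.isoPullback.hom, e]
  exact hPk

section Quot

variable {R U : Sp S} (s t : R ⟶ U)

/-- For an equivalence relation, `R = U ×_{U/R} U`. -/
theorem isPullback_quotSpπ (hj : IsEqvRelSp s t) :
    IsPullback t s (quotSpπ s t) (quotSpπ s t) := by
  have hepi := epi_lift_of_isPreEqvRelSp s t hj.equivalence
  have hmono : Mono (pullback.lift t s (quotSp_condition s t).symm :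
      R ⟶ pullback (quotSpπ s t) (quotSpπ s t)) := by
    apply mono_of_yon
    intro T x y hxy
    apply hj.injective T x y
    · have := congrArg (· ≫ pullback.fst _ _) hxy
      simpa only [Category.assoc, pullback.lift_fst] using this
    · have := congrArg (· ≫ pullback.snd _ _) hxy
      simpa only [Category.assoc, pullback.lift_snd] using this
  have hiso : IsIso (pullback.lift t s (quotSp_condition s t).symm :
      R ⟶ pullback (quotSpπ s t) (quotSpπ s t)) := isIso_of_mono_of_epi _
  exact IsPullback.of_iso_pullback ⟨(quotSp_condition s t).symm⟩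
    (asIso (pullback.lift t s (quotSp_condition s t).symm))
    (pullback.lift_fst _ _ _) (pullback.lift_snd _ _ _)

/-- If `U/R` is an algebraic space (for an equivalence relation), then `U ⟶ U/R` inherits from `s`
any property `P` that is fppf local on the target. -/
theorem locP_quotSpπ {P : MorphismProperty Scheme.{u}}
    [P.IsStableUnderBaseChange] [P.IsStableUnderComposition] [IsEtaleLocalSource P]
    (hP : (@Etale : MorphismProperty Scheme.{u}) ≤ P) [P.IsLocalAtTarget Scheme.fppfPrecoverage]
    (hU : IsAlgSpace U) (hj : IsEqvRelSp s t)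
    (hF : IsAlgSpace (quotSp s t)) (hs : LocP P s) : LocP P (quotSpπ s t) := by
  have := isLocallySurjective_of_epi (quotSpπ s t)
  exact locP_of_locallySurjective_baseChange hP hU hF hU (isPullback_quotSpπ s t hj) hs

end Quot

end Groth.Agent.H8.AlgSp
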