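import Groth.Agent.Lib.Helper8.AlgSp.Gpd
import Groth.Agent.Lib.Helper5.AlgSp.LocPCalc
import Groth.Agent.Lib.Helper5.AlgSp.FibreProduct

/-!
# Restriction of a groupoid: `s'`, `t'` inherit properties stable under base change and
composition
-/

set_option autoImplicit false

universe u

open CategoryTheory CategoryTheory.Limits AlgebraicGeometry Opposite

namespace Groth.Agent.H8.AlgSp

open _root_.AlgSp Groth.Agent.H5.AlgSp Groth.Agent.H5.EtSrc

variable {S : Scheme.{u}} {B : Sp S} {G G' : GroupoidSp B}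

/-- Points of a restriction: a point of `R'` is a triple `(r, u₁', u₂')` with `t r = g u₁'`,
`s r = g u₂'`. -/
theorem restrict_exists_lift (φ : GroupoidSp.Hom G' G) (hφ : φ.IsRestriction) {T : Sp S}
    (r : T ⟶ G.R) (u₁ u₂ : T ⟶ G'.U) (h₁ : r ≫ G.t = u₁ ≫ φ.fU) (h₂ : r ≫ G.s = u₂ ≫ φ.fU) :
    ∃ l : T ⟶ G'.R, l ≫ φ.fR = r ∧ l ≫ G'.t = u₁ ∧ l ≫ G'.s = u₂ := by
  have hφ' : IsPullback φ.fR G'.j G.j φ.prodMap := hφ
  have h1 : u₁ ≫ G'.pU = u₂ ≫ G'.pU := by
    rw [← φ.fU_over, ← Category.assoc, ← h₁, ← Category.assoc, ← h₂, Category.assoc,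
      Category.assoc, G.s_over, G.t_over]
  have h2 : r ≫ G.j = pullback.lift u₁ u₂ h1 ≫ φ.prodMap := by
    apply pullback.hom_ext
    · rw [Category.assoc, Category.assoc, _root_.AlgSp.GroupoidSp.j_fst, GroupoidSp.Hom.prodMap,
        pullback.lift_fst, pullback.lift_fst_assoc, h₁]
    · rw [Category.assoc, Category.assoc, _root_.AlgSp.GroupoidSp.j_snd, GroupoidSp.Hom.prodMap,
        pullback.lift_snd, pullback.lift_snd_assoc, h₂]
  refine ⟨hφ'.lift r (pullback.lift u₁ u₂ h1) h2, hφ'.lift_fst _ _ _, ?_, ?_⟩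
  · rw [← _root_.AlgSp.GroupoidSp.j_fst, hφ'.lift_snd_assoc, pullback.lift_fst]
  · rw [← _root_.AlgSp.GroupoidSp.j_snd, hφ'.lift_snd_assoc, pullback.lift_snd]

theorem restrict_hom_ext (φ : GroupoidSp.Hom G' G) (hφ : φ.IsRestriction) {T : Sp S}
    (l l' : T ⟶ G'.R) (h : l ≫ φ.fR = l' ≫ φ.fR) (h₁ : l ≫ G'.t = l' ≫ G'.t)
    (h₂ : l ≫ G'.s = l' ≫ G'.s) : l = l' := by
  have hφ' : IsPullback φ.fR G'.j G.j φ.prodMap := hφ
  apply hφ'.hom_ext h
  apply pullback.hom_ext
  · rw [Category.assoc, Category.assoc, _root_.AlgSp.GroupoidSp.j_fst, h₁]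
  · rw [Category.assoc, Category.assoc, _root_.AlgSp.GroupoidSp.j_snd, h₂]

/-- For a restriction `G'` of `G` along `g : U' ⟶ U`: the square `R' ⟶ R ×_{s,U,g} U'`, `t'`,
`pr₁ ≫ t`, `g` is cartesian. -/
theorem isPullback_restrict_s (φ : GroupoidSp.Hom G' G) (hφ : φ.IsRestriction) :
    IsPullback (pullback.lift φ.fR G'.s φ.comm_s : G'.R ⟶ pullback G.s φ.fU) G'.t
      (pullback.fst G.s φ.fU ≫ G.t) φ.fU := by
  have key : ∀ c : PullbackCone (pullback.fst G.s φ.fU ≫ G.t) φ.fU,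
      ∃ l : c.pt ⟶ G'.R, l ≫ φ.fR = c.fst ≫ pullback.fst G.s φ.fU ∧ l ≫ G'.t = c.snd ∧
        l ≫ G'.s = c.fst ≫ pullback.snd G.s φ.fU := fun c =>
    restrict_exists_lift φ hφ (c.fst ≫ pullback.fst G.s φ.fU) c.snd
      (c.fst ≫ pullback.snd G.s φ.fU) (by rw [Category.assoc, c.condition])
      (by rw [Category.assoc, Category.assoc, pullback.condition])
  refine ⟨⟨by rw [pullback.lift_fst_assoc, φ.comm_t]⟩,
    ⟨PullbackCone.IsLimit.mk _ (fun c => (key c).choose) ?_ ?_ ?_⟩⟩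
  · intro c
    apply pullback.hom_ext
    · rw [Category.assoc, pullback.lift_fst, (key c).choose_spec.1]
    · rw [Category.assoc, pullback.lift_snd, (key c).choose_spec.2.2]
  · intro c
    exact (key c).choose_spec.2.1
  · intro c m h1 h2
    apply restrict_hom_ext φ hφ
    · rw [(key c).choose_spec.1, ← h1, Category.assoc, pullback.lift_fst]
    · rw [(key c).choose_spec.2.1, h2]
    · rw [(key c).choose_spec.2.2, ← h1, Category.assoc, pullback.lift_snd]

/-- For a restriction `G'` of `G` along `g : U' ⟶ U`: the square `R' ⟶ R ×_{t,U,g} U'`, `s'`,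
`pr₁ ≫ s`, `g` is cartesian. -/
theorem isPullback_restrict_t (φ : GroupoidSp.Hom G' G) (hφ : φ.IsRestriction) :
    IsPullback (pullback.lift φ.fR G'.t φ.comm_t : G'.R ⟶ pullback G.t φ.fU) G'.s
      (pullback.fst G.t φ.fU ≫ G.s) φ.fU := by
  have key : ∀ c : PullbackCone (pullback.fst G.t φ.fU ≫ G.s) φ.fU,
      ∃ l : c.pt ⟶ G'.R, l ≫ φ.fR = c.fst ≫ pullback.fst G.t φ.fU ∧
        l ≫ G'.t = c.fst ≫ pullback.snd G.t φ.fU ∧ l ≫ G'.s = c.snd := fun c =>
    restrict_exists_lift φ hφ (c.fst ≫ pullback.fst G.t φ.fU)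
      (c.fst ≫ pullback.snd G.t φ.fU) c.snd
      (by rw [Category.assoc, Category.assoc, pullback.condition])
      (by rw [Category.assoc, c.condition])
  refine ⟨⟨by rw [pullback.lift_fst_assoc, φ.comm_s]⟩,
    ⟨PullbackCone.IsLimit.mk _ (fun c => (key c).choose) ?_ ?_ ?_⟩⟩
  · intro c
    apply pullback.hom_ext
    · rw [Category.assoc, pullback.lift_fst, (key c).choose_spec.1]
    · rw [Category.assoc, pullback.lift_snd, (key c).choose_spec.2.1]
  · intro c
    exact (key c).choose_spec.2.2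
  · intro c m h1 h2
    apply restrict_hom_ext φ hφ
    · rw [(key c).choose_spec.1, ← h1, Category.assoc, pullback.lift_fst]
    · rw [(key c).choose_spec.2.1, ← h1, Category.assoc, pullback.lift_snd]
    · rw [(key c).choose_spec.2.2, h2]

section Good

variable {P : MorphismProperty Scheme.{u}} [P.IsStableUnderBaseChange]
  [P.IsStableUnderComposition] [IsEtaleLocalSource P]

/-- If `s`, `t`, `g` are `LocP P` then so are `s'`, `t'` of the restriction along `g`. -/
theorem restrict_locP (hP : (@Etale : MorphismProperty Scheme.{u}) ≤ P)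
    (hU : IsAlgSpace G.U) (hR : IsAlgSpace G.R) (hU' : IsAlgSpace G'.U) (hR' : IsAlgSpace G'.R)
    (φ : GroupoidSp.Hom G' G) (hφ : φ.IsRestriction)
    (hs : LocP P G.s) (ht : LocP P G.t) (hg : LocP P φ.fU) :
    LocP P G'.s ∧ LocP P G'.t := by
  constructor
  · -- s' = (R' → R ×_{s,U} U') ≫ snd
    have sq := isPullback_restrict_s φ hφ
    have hX : IsAlgSpace (pullback G.s φ.fU) :=
      isAlgSpace_pullback hU.diag hR hU' (IsPullback.of_hasPullback G.s φ.fU)
    have h1 : LocP P (pullback.lift φ.fR G'.s φ.comm_s : G'.R ⟶ pullback G.s φ.fU) :=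
      locP_of_isPullback hP sq.flip hU' hU hX hg
    have h2 : LocP P (pullback.snd G.s φ.fU) :=
      locP_of_isPullback hP (IsPullback.of_hasPullback G.s φ.fU) hR hU hU' hs
    have := locP_comp hP hR' hX hU' h1 h2
    rwa [pullback.lift_snd] at this
  · have sq := isPullback_restrict_t φ hφ
    have hX : IsAlgSpace (pullback G.t φ.fU) :=
      isAlgSpace_pullback hU.diag hR hU' (IsPullback.of_hasPullback G.t φ.fU)
    have h1 : LocP P (pullback.lift φ.fR G'.t φ.comm_t : G'.R ⟶ pullback G.t φ.fU) :=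
      locP_of_isPullback hP sq.flip hU' hU hX hg
    have h2 : LocP P (pullback.snd G.t φ.fU) :=
      locP_of_isPullback hP (IsPullback.of_hasPullback G.t φ.fU) hR hU hU' ht
    have := locP_comp hP hR' hX hU' h1 h2
    rwa [pullback.lift_snd] at this

end Good

end Groth.Agent.H8.AlgSp
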